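import Cfsg.Agent.Lib.Linear.ShortPres.SLN.Seven.Glue
import Cfsg.Agent.Lib.Linear.ShortPres.Alt.Half
import Cfsg.Agent.Lib.PresSymAlt.Choice
import Cfsg.Agent.Lib.PresSymAlt.Small
import Cfsg.Agent.Lib.Recog.Icosahedral

/-!
# Special linear groups: seven generators and twenty-five relators
-/

set_option autoImplicit false

namespace Cfsg.Lib.Linear.ShortPres.SLN.Seven

open Equiv Matrix
open scoped MatrixGroups

/-- One relator presents a quotient by a cyclic normal subgroup. -/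
theorem bddG_quotient {M : Type*} [Group M] {k r : ℕ} (h : BddG M k r) (N : Subgroup M) [N.Normal] (z : M)
    (hz : Subgroup.closure ({z} : Set M) = N) : BddG (M ⧸ N) k (r + 1) := by
  classical
  obtain ⟨R, hR, ⟨e⟩⟩ := h
  obtain ⟨w, hw⟩ := PresentedGroup.mk_surjective _ (e.symm z)
  set R' : Finset (FreeGroup (Fin k)) := insert w R with hR'
  let f : Fin k → M ⧸ N := fun i => (QuotientGroup.mk' N) (e (PresentedGroup.of i))
  have hf : FreeGroup.lift f = ((QuotientGroup.mk' N).comp e.toMonoidHom).comp (PresentedGroup.mk _) :=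
    FreeGroup.ext_hom _ _ fun i => by simp [f, PresentedGroup.of]
  have hzN : z ∈ N := hz ▸ Subgroup.subset_closure rfl
  have hrel : ∀ x ∈ (↑R' : Set (FreeGroup (Fin k))), FreeGroup.lift f x = 1 := by
    intro x hx
    rw [hf, MonoidHom.comp_apply]
    rcases Finset.mem_insert.1 (Finset.mem_coe.1 hx) with rfl | hx
    · rw [hw, MonoidHom.comp_apply, MulEquiv.coe_toMonoidHom, MulEquiv.apply_symm_apply, QuotientGroup.mk'_apply,
        QuotientGroup.eq_one_iff]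
      exact hzN
    · rw [PresentedGroup.one_of_mem (Finset.mem_coe.2 hx), map_one]
  let q := PresentedGroup.mk (↑R' : Set (FreeGroup (Fin k)))
  have hq' : FreeGroup.lift (fun i => PresentedGroup.of (rels := (↑R' : Set (FreeGroup (Fin k)))) i) = q :=
    FreeGroup.ext_hom _ _ fun i => by simp [q, PresentedGroup.of]
  have hq : ∀ x ∈ (↑R : Set (FreeGroup (Fin k))),
      FreeGroup.lift (fun i => PresentedGroup.of (rels := (↑R' : Set (FreeGroup (Fin k)))) i) x = 1 := by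
    intro x hx
    rw [hq']
    exact PresentedGroup.one_of_mem (Finset.mem_coe.2 (Finset.mem_insert_of_mem (Finset.mem_coe.1 hx)))
  let θ : M →* PresentedGroup (↑R' : Set (FreeGroup (Fin k))) := (PresentedGroup.toGroup hq).comp e.symm.toMonoidHom
  have hθ : (PresentedGroup.toGroup hq).comp (PresentedGroup.mk _) = q :=
    FreeGroup.ext_hom _ _ fun i => PresentedGroup.toGroup.of hq
  have hθN : N ≤ θ.ker := by
    rw [← hz, Subgroup.closure_le, Set.singleton_subset_iff, SetLike.mem_coe, MonoidHom.mem_ker]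
    show PresentedGroup.toGroup hq (e.symm z) = 1
    rw [← hw, ← MonoidHom.comp_apply, hθ]
    exact PresentedGroup.one_of_mem (Finset.mem_coe.2 (Finset.mem_insert_self w R))
  refine ⟨R', (Finset.card_insert_le _ _).trans (by omega), ⟨MonoidHom.toMulEquiv (PresentedGroup.toGroup hrel)
    (QuotientGroup.lift N θ hθN) (PresentedGroup.ext fun i => ?_) (MonoidHom.ext fun x => ?_)⟩⟩
  · simp [f, θ]
  · obtain ⟨m, rfl⟩ := QuotientGroup.mk'_surjective N x
    obtain ⟨y, rfl⟩ := e.surjective m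
    have : (PresentedGroup.toGroup hrel).comp (PresentedGroup.toGroup hq) = (QuotientGroup.mk' N).comp e.toMonoidHom :=
      PresentedGroup.ext fun i => by simp [f]
    simpa [θ] using DFunLike.congr_fun this y

theorem bddG_alt_four : BddG ↥(alternatingGroup (Fin 2 ⊕ Bool)) 2 3 := by
  let X : FreeGroup (Fin 2) := FreeGroup.of 0
  let Y : FreeGroup (Fin 2) := FreeGroup.of 1
  let R : Finset (FreeGroup (Fin 2)) := {X ^ 3, Y ^ 3, (X * Y) ^ 2}
  have hrels : ∀ r ∈ (↑R : Set (FreeGroup (Fin 2))),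
      FreeGroup.lift (fun i => (⟨PresSymAlt.tri i, PresSymAlt.tri_mem i⟩ : ↥(alternatingGroup (Fin 2 ⊕ Bool)))) r = 1 := by
    intro r hr
    simp only [R, X, Y, Finset.coe_insert, Finset.coe_singleton, Set.mem_insert_iff, Set.mem_singleton_iff] at hr
    rcases hr with rfl | rfl | rfl <;> simp only [map_pow, map_mul, FreeGroup.lift_apply_of]
    · exact Subtype.ext ((PresSymAlt.tri_carRel (I := Fin 2)).cube 0)
    · exact Subtype.ext ((PresSymAlt.tri_carRel (I := Fin 2)).cube 1)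
    · exact Subtype.ext ((PresSymAlt.tri_carRel (I := Fin 2)).pair 0 1 (by decide))
  have hmk : ∀ x ∈ R, PresentedGroup.mk (↑R : Set (FreeGroup (Fin 2))) x = 1 := fun x hx =>
    PresentedGroup.one_of_mem (Finset.mem_coe.2 hx)
  refine ⟨R, Finset.card_le_three, PresSymAlt.alt_iso_of_carRel (PresentedGroup.toGroup hrels)
    (y := PresentedGroup.of) ⟨?_, ?_⟩ ?_ ?_⟩
  · intro i
    fin_cases i
    · have h := hmk (X ^ 3) (by simp [R])
      rwa [map_pow] at h
    · have h := hmk (Y ^ 3) (by simp [R])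
      rwa [map_pow] at h
  · have h := hmk ((X * Y) ^ 2) (by simp [R])
    rw [map_pow, map_mul] at h
    intro i j hij
    fin_cases i <;> fin_cases j
    · exact absurd rfl hij
    · exact h
    · exact Alt.pair_symm h
    · exact absurd rfl hij
  · exact fun i => PresentedGroup.toGroup.of _
  · exact PresentedGroup.closure_range_of _

theorem bddG_alt_five : BddG ↥(alternatingGroup (Fin 5)) 2 3 := by
  classical
  obtain ⟨e⟩ := Cfsg.Lib.Recog.Icosa.iso_presented_five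
  let R : Finset (FreeGroup (Fin 2)) :=
    {FreeGroup.of 0 ^ 3, FreeGroup.of 1 ^ 5, (FreeGroup.of 0 * FreeGroup.of 1) ^ 2}
  have hR : (↑R : Set (FreeGroup (Fin 2))) = Cfsg.Lib.Recog.Icosa.rels5 := by
    simp [R, Cfsg.Lib.Recog.Icosa.rels5]
  exact ⟨R, Finset.card_le_three, ⟨(QuotientGroup.quotientMulEquivOfEq (by rw [hR])).trans e⟩⟩

theorem bddG_pt {d k r : ℕ} {α : Type*} [Fintype α] [DecidableEq α] (h : BddG ↥(alternatingGroup α) k r)
    (e : α ≃ Pt d) : BddG ↥(alternatingGroup (Pt d)) k r :=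
  h.of_equiv (Equiv.altCongrHom e)

variable {F : Type*} [Field F] [Fintype F]

theorem slBase_four : SLBase F 0 2 20 := by
  have e : Fin 2 ⊕ Bool ≃ Pt 0 := Fintype.equivOfCardEq (by simp)
  let s₁ : alternatingGroup (Pt 0) := ⟨swap (p0 0) (p2 0) * swap (p1 0) (p3 0), Perm.mem_alternatingGroup.2 (by decide)⟩
  let s₂ : alternatingGroup (Pt 0) := ⟨swap (p0 0) (p3 0) * swap (p1 0) (p2 0), Perm.mem_alternatingGroup.2 (by decide)⟩
  have hS : ∀ π : alternatingGroup (Pt 0), π.1 (p0 0) = p0 0 → π.1 (p1 0) = p1 0 → π = 1 := by decide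
  refine (bddOn_SL 0 (bddG_pt bddG_alt_four e) (s := 0) Fin.elim0 (fun a => a.elim0)
    (fun π h0 h1 => hS π h0 h1 ▸ one_mem _) ![s₁, s₂] ?_ ?_)
  · intro j; fin_cases j <;> decide
  · have h : ∀ a b : Pt 0, a ≠ b → a ≠ p0 0 → a ≠ p1 0 → b ≠ p0 0 → b ≠ p1 0 →
        ∃ j : Fin 2, (![s₁, s₂] j).1 (p0 0) = a ∧ (![s₁, s₂] j).1 (p1 0) = b := by decide
    intro a b hab a0 a1 b0 b1
    obtain ⟨j, ja, jb⟩ := h a b hab a0 a1 b0 b1
    exact ⟨j, 1, rfl, rfl, ja, jb⟩

set_option maxRecDepth 8000 in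
theorem slBase_five : SLBase F 1 2 21 := by
  have e : Fin 5 ≃ Pt 1 := Fintype.equivOfCardEq (by simp)
  let s₁ : alternatingGroup (Pt 1) := ⟨swap (p0 1) (p2 1) * swap (p1 1) (p3 1), Perm.mem_alternatingGroup.2 (by decide)⟩
  let s₂ : alternatingGroup (Pt 1) := ⟨swap (p0 1) (p3 1) * swap (p1 1) (p2 1), Perm.mem_alternatingGroup.2 (by decide)⟩
  let c : alternatingGroup (Pt 1) :=
    ⟨swap (p2 1) (p3 1) * swap (p3 1) (Sum.inr 1), Perm.mem_alternatingGroup.2 (by decide)⟩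
  have hS : ∀ π : alternatingGroup (Pt 1), π.1 (p0 1) = p0 1 → π.1 (p1 1) = p1 1 → π = 1 ∨ π = c ∨ π = c * c := by
    decide
  have hc : c ∈ Subgroup.closure (Set.range ![c]) := Subgroup.subset_closure ⟨0, rfl⟩
  refine (bddOn_SL 1 (bddG_pt bddG_alt_five e) (s := 1) ![c] ?_ ?_ ![s₁, s₂] ?_ ?_)
  · intro a; fin_cases a; decide
  · intro π h0 h1
    rcases hS π h0 h1 with rfl | rfl | rfl
    exacts [one_mem _, hc, mul_mem hc hc]
  · intro j; fin_cases j <;> decide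
  · have h : ∀ a b : Pt 1, a ≠ b → a ≠ p0 1 → a ≠ p1 1 → b ≠ p0 1 → b ≠ p1 1 →
        ∃ (j : Fin 2) (k : Fin 3), (c ^ (k : ℕ) * ![s₁, s₂] j).1 (p0 1) = a ∧
          (c ^ (k : ℕ) * ![s₁, s₂] j).1 (p1 1) = b := by decide
    have hf : ∀ k : Fin 3, (c ^ (k : ℕ)).1 (p0 1) = p0 1 ∧ (c ^ (k : ℕ)).1 (p1 1) = p1 1 := by decide
    intro a b hab a0 a1 b0 b1
    obtain ⟨j, k, ja, jb⟩ := h a b hab a0 a1 b0 b1
    exact ⟨j, c ^ (k : ℕ), (hf k).1, (hf k).2, ja, jb⟩

theorem slBase_large (d : ℕ) (hd : 2 ≤ d) : SLBase F d 3 25 := by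
  classical
  obtain ⟨R, hR, he, -⟩ := Cfsg.Lib.PresSymAlt.pres3_alt (n := 3 + (d + 1)) (by omega)
  have hT : BddG ↥(alternatingGroup (Pt d)) 3 7 := bddG_pt (⟨R, hR, he⟩ : BddG _ 3 7) finSumFinEquiv.symm
  let emb : {x : Pt d // x ≠ p0 d ∧ x ≠ p1 d} ↪ Pt d := Function.Embedding.subtype _
  obtain ⟨q₁, q₂, hq⟩ := Alt.two_gen {x : Pt d // x ≠ p0 d ∧ x ≠ p1 d}
  have hn0 : p0 d ∉ Set.range emb := fun ⟨x, hx⟩ => x.2.1 hx
  have hn1 : p1 d ∉ Set.range emb := fun ⟨x, hx⟩ => x.2.2 hx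
  let s₁ : alternatingGroup (Pt d) := ⟨swap (p0 d) (p2 d) * swap (p1 d) (p3 d), Perm.mem_alternatingGroup.2 (by
    rw [Perm.sign_mul, Perm.sign_swap (by simp), Perm.sign_swap (by simp)]; rfl)⟩
  refine (bddOn_SL d hT (s := 2) (fun a => Alt.extA emb (![q₁, q₂] a))
    (fun a => ⟨Alt.extA_apply_of_notMem emb _ hn0, Alt.extA_apply_of_notMem emb _ hn1⟩) ?_ ![s₁] ?_ ?_)
  · intro π h0 h1
    obtain ⟨v, rfl⟩ := exists_extA emb π (fun x hx => by
      by_cases h : x = p0 d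
      · rw [h, h0]
      · have : x = p1 d := by_contra fun h' => hx ⟨⟨x, h, h'⟩, rfl⟩
        rw [this, h1])
    have h : Alt.extA emb v ∈ (⊤ : Subgroup _).map (Alt.extA emb) := ⟨v, trivial, rfl⟩
    rw [← hq, MonoidHom.map_closure] at h
    refine Subgroup.closure_mono ?_ h
    rintro _ ⟨x, rfl | rfl, rfl⟩
    exacts [⟨0, rfl⟩, ⟨1, rfl⟩]
  · intro j
    fin_cases j
    simp [s₁, p0, p1, p2, p3, Perm.mul_apply, swap_apply_def]
  · intro a b hab a0 a1 b0 b1
    have hs : s₁.1 (p0 d) = p2 d ∧ s₁.1 (p1 d) = p3 d := by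
      simp [s₁, p0, p1, p2, p3, Perm.mul_apply, swap_apply_def]
    obtain ⟨τ, t0, t1, t2, t3⟩ : ∃ τ : Perm (Pt d), τ (p0 d) = p0 d ∧ τ (p1 d) = p1 d ∧ τ (p2 d) = a ∧ τ (p3 d) = b := by
      let τ₁ : Perm (Pt d) := swap (p2 d) a
      have e0 : τ₁ (p0 d) = p0 d := swap_apply_of_ne_of_ne (by simp) a0.symm
      have e1 : τ₁ (p1 d) = p1 d := swap_apply_of_ne_of_ne (by simp) a1.symm
      have e2 : τ₁ (p2 d) = a := swap_apply_left _ _
      have k0 : τ₁ (p3 d) ≠ p0 d := fun e => by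
        have := τ₁.injective (e.trans e0.symm); simp at this
      have k1 : τ₁ (p3 d) ≠ p1 d := fun e => by
        have := τ₁.injective (e.trans e1.symm); simp at this
      have k2 : τ₁ (p3 d) ≠ a := fun e => by
        have := τ₁.injective (e.trans e2.symm); simp at this
      refine ⟨swap (τ₁ (p3 d)) b * τ₁, ?_, ?_, ?_, ?_⟩ <;> rw [Perm.mul_apply]
      · rw [e0]; exact swap_apply_of_ne_of_ne k0.symm b0.symm
      · rw [e1]; exact swap_apply_of_ne_of_ne k1.symm b1.symm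
      · rw [e2]; exact swap_apply_of_ne_of_ne k2.symm hab
      · exact swap_apply_left _ _
    obtain ⟨u₁, hu₁⟩ : ∃ x : Pt d, x = Sum.inr (⟨1, by omega⟩ : Fin (d + 1)) := ⟨_, rfl⟩
    obtain ⟨u₂, hu₂⟩ : ∃ x : Pt d, x = Sum.inr (⟨2, by omega⟩ : Fin (d + 1)) := ⟨_, rfl⟩
    have hxy : u₁ ≠ u₂ := by simp [hu₁, hu₂, Fin.ext_iff]
    obtain ⟨π, hπ⟩ := exists_even τ hxy
    refine ⟨0, π, ?_⟩
    show π.1 (p0 d) = p0 d ∧ π.1 (p1 d) = p1 d ∧ π.1 (s₁.1 (p0 d)) = a ∧ π.1 (s₁.1 (p1 d)) = b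
    rw [hs.1, hs.2]
    rcases hπ with h | h <;> rw [h]
    · exact ⟨t0, t1, t2, t3⟩
    · have hfix : ∀ x : Pt d, x ≠ u₁ → x ≠ u₂ → (τ * swap u₁ u₂ : Perm (Pt d)) x = τ x := fun x h1 h2 => by
        rw [Perm.mul_apply, swap_apply_of_ne_of_ne h1 h2]
      refine ⟨?_, ?_, ?_, ?_⟩
      · rw [hfix _ (by simp [hu₁]) (by simp [hu₂])]; exact t0
      · rw [hfix _ (by simp [hu₁]) (by simp [hu₂])]; exact t1
      · rw [hfix _ (by simp [hu₁]) (by simp [hu₂])]; exact t2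
      · rw [hfix _ (by simp [hu₁, Fin.ext_iff]) (by simp [hu₂, Fin.ext_iff])]; exact t3

theorem bddG_four : BddG (SpecialLinearGroup (Pt 0) F) 6 20 := slBase_four.bddG

theorem bddG_five : BddG (SpecialLinearGroup (Pt 1) F) 6 21 := slBase_five.bddG

theorem bddG_large (d : ℕ) (hd : 2 ≤ d) : BddG (SpecialLinearGroup (Pt d) F) 7 25 := (slBase_large d hd).bddG

theorem presentations {n : ℕ} (hn : 4 ≤ n) :
    BddG (SpecialLinearGroup (Fin n) F) 7 25 ∧ BddG (ProjectiveSpecialLinearGroup (Fin n) F) 7 26 := by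
  have h : BddG (SpecialLinearGroup (Fin n) F) 7 25 := by
    obtain ⟨d, rfl⟩ := Nat.exists_eq_add_of_le hn
    have e : Pt d ≃ Fin (4 + d) := Fintype.equivFinOfCardEq (by
      simp only [Fintype.card_sum, Fintype.card_fin]; omega)
    refine BddG.of_equiv ?_ (rex e)
    rcases d with _ | _ | d
    · exact ((bddG_four (F := F)).pad 1).mono (by norm_num)
    · exact ((bddG_five (F := F)).pad 1).mono (by norm_num)
    · exact bddG_large _ (by omega)
  refine ⟨h, ?_⟩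
  haveI : NeZero n := ⟨by omega⟩
  haveI : NeZero (Fintype.card (Fin n)) := ⟨by simp [NeZero.ne n]⟩
  haveI : IsCyclic (Subgroup.center (SpecialLinearGroup (Fin n) F)) :=
    isCyclic_of_surjective _ (SpecialLinearGroup.center_equiv_rootsOfUnity (n := Fin n) (R := F)).symm.surjective
  obtain ⟨z, hz⟩ := IsCyclic.exists_generator (α := Subgroup.center (SpecialLinearGroup (Fin n) F))
  refine bddG_quotient h _ z.1 (le_antisymm ?_ fun x hx => ?_)
  · rw [Subgroup.closure_le, Set.singleton_subset_iff]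
    exact z.2
  · obtain ⟨k, hk⟩ := Subgroup.mem_zpowers_iff.1 (hz ⟨x, hx⟩)
    have : (z.1 : SpecialLinearGroup (Fin n) F) ^ k = x := by rw [← Subgroup.coe_zpow, hk]
    rw [← this]
    exact Subgroup.zpow_mem _ (Subgroup.subset_closure (Set.mem_singleton z.1)) k

theorem four_and_five :
    BddG (SpecialLinearGroup (Fin 4) F) 6 21 ∧ BddG (SpecialLinearGroup (Fin 5) F) 6 22 :=
  ⟨((bddG_four (F := F)).of_equiv (rex (finSumFinEquiv : Pt 0 ≃ Fin 4))).mono (by norm_num),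
    ((bddG_five (F := F)).of_equiv (rex (finSumFinEquiv : Pt 1 ≃ Fin 5))).mono (by norm_num)⟩

end Cfsg.Lib.Linear.ShortPres.SLN.Seven
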