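import Cfsg.Agent.Lib.Linear.ShortPres.SLN.Mat
import Cfsg.Agent.Lib.Linear.ShortPres.SLThree.Main
import Cfsg.Agent.Lib.Linear.ShortPres.Bdd

/-!
# The short presentation of `SL₃` without the relator on the three-cycle
-/

set_option autoImplicit false

namespace Cfsg.Lib.Linear.ShortPres.SLN.Seven

open Equiv Matrix
open scoped MatrixGroups

variable {F : Type*} [Field F]

/-- The three-cycle on three points. -/
def cA : alternatingGroup (Fin 3) := ⟨swap 0 1 * swap 1 2, Perm.mem_alternatingGroup.2 (by decide)⟩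

theorem pm_cA : (pm cA : SL(3, F)) = Three.dm (-1) 1 * Three.cm * (Three.dm (-1) 1)⁻¹ := by
  rw [Three.dm_inv]
  refine Subtype.ext ?_
  simp only [Matrix.SpecialLinearGroup.coe_mul, Three.dm_coe, Three.cm_coe]
  ext i j
  rw [pm_apply]
  fin_cases i <;> fin_cases j <;>
    simp [cA, Perm.inv_eq_iff_eq, Matrix.mul_apply, Fin.sum_univ_three, swap_apply_def]

set_option maxHeartbeats 2000000 in
/-- A group with thirteen relators which becomes `SL₃` as soon as its three-cycle has order three. -/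
theorem exists_cover [Fintype F] :
    ∃ (R : Finset (FreeGroup (Fin 4))) (ψ : PresentedGroup (↑R : Set (FreeGroup (Fin 4))) →* SL(3, F)),
      R.card ≤ 13 ∧ Function.Surjective ψ ∧
      ψ (PresentedGroup.of 3) = pm cA ∧
      ∀ (G : Type) [Group G] (A : PresentedGroup (↑R : Set (FreeGroup (Fin 4))) →* G),
        A (PresentedGroup.of 3) ^ 3 = 1 → ∃ A' : SL(3, F) →* G, A'.comp ψ = A := by
  classical
  obtain ⟨p, hp⟩ := CharP.exists F
  haveI : Fact p.Prime := ⟨CharP.char_is_prime F p⟩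
  obtain ⟨ζ, hζ⟩ := IsCyclic.exists_generator (α := Fˣ)
  have hgen : ∀ x : Fˣ, ∃ i : ℕ, x = ζ ^ i := fun x => by
    obtain ⟨i, hi⟩ := mem_powers_iff_mem_zpowers.2 (hζ x)
    exact ⟨i, hi.symm⟩
  have hord : orderOf (ζ : F) = Fintype.card F - 1 := by
    rw [orderOf_units, orderOf_eq_card_of_forall_mem_zpowers hζ, Nat.card_units, Nat.card_eq_fintype_card]
  obtain ⟨D, S⟩ := Three.exists_data (p := p) ζ hgen
  set E := (Three.freeRels D).eraseIdx 9 with hE
  set c : FreeGroup (Fin 4) := FreeGroup.of 3 with hc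
  have hmem : ∀ e ∈ Three.freeRels D, e ∈ E ∨ e = (c * c * c, 1) := by
    intro e he
    obtain ⟨i, hi, rfl⟩ := List.getElem_of_mem he
    rcases eq_or_ne i 9 with rfl | hne
    · refine Or.inr ?_
      simp [Three.rels, hc]
    · exact Or.inl (List.mem_eraseIdx_iff_getElem.2 ⟨i, hi, hne, rfl⟩)
  have hlen : E.length ≤ 13 := by
    have h14 : (Three.freeRels D).length ≤ 14 := Three.rels_length D _ _ _ _
    have h9 : 9 < (Three.freeRels D).length := by simp [Three.rels]
    rw [hE, List.length_eraseIdx_of_lt h9]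
    omega
  set R : Finset (FreeGroup (Fin 4)) := (E.map fun e => e.1 * e.2⁻¹).toFinset with hR
  set u : Fin 4 → SL(3, F) := fun i =>
    MulAut.conj (Three.dm (-1) 1 : SL(3, F)) (![Three.xm (1 : F), Three.dm ζ ζ⁻¹, Three.tm, Three.cm] i) with hu
  have hu' : FreeGroup.lift u = (MulAut.conj (Three.dm (-1) 1 : SL(3, F))).toMonoidHom.comp
      (FreeGroup.lift ![Three.xm (1 : F), Three.dm ζ ζ⁻¹, Three.tm, Three.cm]) :=
    FreeGroup.ext_hom _ _ fun i => by simp [hu]
  have hsat : ∀ e ∈ Three.freeRels D, FreeGroup.lift u e.1 = FreeGroup.lift u e.2 := fun e he => by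
    rw [hu', MonoidHom.comp_apply, MonoidHom.comp_apply,
      (Three.lift_freeRels D ![Three.xm (1 : F), Three.dm ζ ζ⁻¹, Three.tm, Three.cm]).2 (Three.rels_sat ζ S) e he]
  have hrel : ∀ r ∈ (↑R : Set (FreeGroup (Fin 4))), FreeGroup.lift u r = 1 := by
    intro r hr
    obtain ⟨e, he, rfl⟩ := List.mem_map.1 (List.mem_toFinset.1 hr)
    rw [map_mul, map_inv, hsat e (List.mem_of_mem_eraseIdx he), mul_inv_cancel]
  set ψ := PresentedGroup.toGroup hrel with hψ
  have hψs : Function.Surjective ψ := by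
    rw [← MonoidHom.range_eq_top, eq_top_iff]
    intro g _
    obtain ⟨g, rfl⟩ := (MulAut.conj (Three.dm (-1) 1 : SL(3, F))).surjective g
    have : g ∈ (⊤ : Subgroup SL(3, F)) := trivial
    rw [← Three.closure_gens (S := ψ.range.comap (MulAut.conj (Three.dm (-1) 1 : SL(3, F))).toMonoidHom)
      ?_ ⟨PresentedGroup.of 2, ?_⟩ ⟨PresentedGroup.of 3, ?_⟩] at this
    · exact this
    · intro a
      rcases eq_or_ne a 0 with rfl | ha
      · rw [show Three.xm (0 : F) = 1 from map_one (Three.xmHom (F := F))]; exact one_mem _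
      set W := ψ.range.comap (MulAut.conj (Three.dm (-1) 1 : SL(3, F))).toMonoidHom
      have hxu : Three.xm (1 : F) ∈ W := ⟨PresentedGroup.of 0, by rw [hψ, PresentedGroup.toGroup.of]; rfl⟩
      have hh : Three.dm ζ ζ⁻¹ ∈ W := ⟨PresentedGroup.of 1, by rw [hψ, PresentedGroup.toGroup.of]; rfl⟩
      have hcW : (Three.cm : SL(3, F)) ∈ W := ⟨PresentedGroup.of 3, by rw [hψ, PresentedGroup.toGroup.of]; rfl⟩
      have hg : Three.dm (1 : Fˣ) ζ ∈ W := by
        have := mul_mem (mul_mem hcW hh) (inv_mem hcW)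
        rwa [Three.cm_conj_dm, mul_inv_cancel, inv_one] at this
      obtain ⟨i, hi⟩ := hgen (Units.mk0 a ha)⁻¹
      have := mul_mem (mul_mem (pow_mem hg i) hxu) (inv_mem (pow_mem hg i))
      rwa [Three.dm_pow, Three.dm_conj_xm, one_pow, Units.val_one, one_mul, mul_one, ← hi, inv_inv,
        Units.val_mk0] at this
    · rw [hψ, PresentedGroup.toGroup.of]; rfl
    · rw [hψ, PresentedGroup.toGroup.of]; rfl
  refine ⟨R, ψ, (List.toFinset_card_le _).trans ((List.length_map _).le.trans hlen), hψs, ?_, ?_⟩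
  · rw [hψ, PresentedGroup.toGroup.of, pm_cA, hu]
    rfl
  intro G _ A hA
  -- the quotient by the omitted relator is `SL₃`
  set R' : Finset (FreeGroup (Fin 4)) := insert (c * c * c) R with hR'
  let o : Fin 4 → PresentedGroup (↑R' : Set (FreeGroup (Fin 4))) := PresentedGroup.of
  have hmk : FreeGroup.lift o = PresentedGroup.mk (↑R' : Set (FreeGroup (Fin 4))) :=
    FreeGroup.ext_hom _ _ fun i => by simp [o, PresentedGroup.of]
  have hrel' : ∀ r ∈ (↑R' : Set (FreeGroup (Fin 4))), FreeGroup.lift u r = 1 := by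
    intro r hr
    rcases Finset.mem_insert.1 (Finset.mem_coe.1 hr) with rfl | hr
    · have := hsat (c * c * c, 1) (by simp [Three.rels, hc])
      rwa [map_one] at this
    · exact hrel r hr
  set φ := PresentedGroup.toGroup hrel' with hφ
  set conj' := (MulAut.conj (Three.dm (-1) 1 : SL(3, F))).symm.toMonoidHom with hconj'
  have hpt : ∀ i, conj'.comp φ (o i) = ![Three.xm (1 : F), Three.dm ζ ζ⁻¹, Three.tm, Three.cm] i := fun i => by
    show (MulAut.conj (Three.dm (-1) 1 : SL(3, F))).symm (φ (PresentedGroup.of i)) = _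
    rw [hφ, PresentedGroup.toGroup.of, hu, MulEquiv.symm_apply_apply]
  obtain ⟨hfin, hb⟩ := Three.bound ζ hgen hord S (o 0) (o 1) (o 2) (o 3) (conj'.comp φ)
    (by
      rw [eq_top_iff, ← PresentedGroup.closure_range_of, Subgroup.closure_le]
      rintro _ ⟨i, rfl⟩
      refine Subgroup.subset_closure ?_
      fin_cases i <;> simp [o])
    (hpt 0) (hpt 1) (hpt 3)
    ((Three.lift_freeRels D o).1 fun e he => by
      rw [hmk]
      have h1 : e.1 * e.2⁻¹ ∈ (↑R' : Set (FreeGroup (Fin 4))) := by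
        rcases hmem e he with h | rfl
        · exact Finset.mem_coe.2 (Finset.mem_insert_of_mem (List.mem_toFinset.2 (List.mem_map.2 ⟨e, h, rfl⟩)))
        · simp [hR']
      have := PresentedGroup.one_of_mem h1
      rwa [map_mul, map_inv, mul_inv_eq_one] at this)
  have hφs : Function.Surjective φ := by
    intro g
    obtain ⟨x, hx⟩ := hψs g
    obtain ⟨w, rfl⟩ := PresentedGroup.mk_surjective _ x
    have hφψ : φ.comp (PresentedGroup.mk _) = ψ.comp (PresentedGroup.mk _) := FreeGroup.ext_hom _ _ fun i => by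
      show φ (PresentedGroup.of i) = ψ (PresentedGroup.of i)
      rw [hψ, hφ, PresentedGroup.toGroup.of, PresentedGroup.toGroup.of]
    exact ⟨PresentedGroup.mk _ w, (DFunLike.congr_fun hφψ w).trans hx⟩
  have hcard : Fintype.card F ^ 3 * (Fintype.card F + 1) * (Fintype.card F - 1) ^ 2 *
      (Fintype.card F ^ 2 + Fintype.card F + 1) ≤ Nat.card SL(3, F) := by
    have h := Cfsg.Lib.Linear.card_SL_mul (F := F) 3 (by norm_num)
    rw [Fin.prod_univ_three] at h
    simp only [Fin.val_zero, Fin.val_one, Fin.val_two, pow_zero, pow_one] at h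
    have h2 : 2 ≤ Fintype.card F := Fintype.one_lt_card
    obtain ⟨N, hN⟩ : ∃ N, Fintype.card F = N + 1 := ⟨Fintype.card F - 1, by omega⟩
    rw [hN] at h ⊢
    rw [Nat.add_sub_cancel] at h ⊢
    refine Nat.le_of_mul_le_mul_left (le_of_eq ?_) (show 0 < N by omega)
    rw [h, show (N + 1) ^ 3 - 1 = N * ((N + 1) ^ 2 + (N + 1) + 1) from Nat.sub_eq_of_eq_add (by ring),
      show (N + 1) ^ 3 - (N + 1) = (N + 1) * (N * (N + 2)) from Nat.sub_eq_of_eq_add (by ring),
      show (N + 1) ^ 3 - (N + 1) ^ 2 = (N + 1) ^ 2 * N from Nat.sub_eq_of_eq_add (by ring)]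
    ring
  haveI := hfin
  let ε : PresentedGroup (↑R' : Set (FreeGroup (Fin 4))) ≃* SL(3, F) := MulEquiv.ofBijective φ
    ((Nat.bijective_iff_surjective_and_card φ).2
      ⟨hφs, le_antisymm (hb.trans hcard) (Nat.card_le_card_of_surjective φ hφs)⟩)
  have hA' : FreeGroup.lift (fun i => A (PresentedGroup.of i)) = A.comp (PresentedGroup.mk _) :=
    FreeGroup.ext_hom _ _ fun i => by simp [PresentedGroup.of]
  let A₁ : PresentedGroup (↑R' : Set (FreeGroup (Fin 4))) →* G := PresentedGroup.toGroup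
    (f := fun i => A (PresentedGroup.of i)) (by
      intro r hr
      rcases Finset.mem_insert.1 (Finset.mem_coe.1 hr) with rfl | hr
      · simp only [map_mul, hc, FreeGroup.lift_apply_of]
        rw [← hA]; simp [pow_succ, mul_assoc]
      · rw [hA', MonoidHom.comp_apply, PresentedGroup.one_of_mem (Finset.mem_coe.2 hr), map_one])
  refine ⟨A₁.comp ε.symm.toMonoidHom, PresentedGroup.ext fun i => ?_⟩
  have he : ψ (PresentedGroup.of i) = ε (o i) := by
    show ψ (PresentedGroup.of i) = φ (PresentedGroup.of i)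
    rw [hψ, hφ, PresentedGroup.toGroup.of, PresentedGroup.toGroup.of]
  simp only [MonoidHom.comp_apply, MulEquiv.coe_toMonoidHom, he, MulEquiv.symm_apply_apply]
  exact PresentedGroup.toGroup.of _

end Cfsg.Lib.Linear.ShortPres.SLN.Seven
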