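import Cfsg.Agent.Lib.Linear.ShortPres.SLN.Mat
import Cfsg.Agent.Lib.Linear.ShortPres.SLTwo
import Cfsg.Agent.S0801

/-!
# A single element generating `SL₂` together with its transpose along both diagonals
-/

set_option autoImplicit false

namespace Cfsg.Lib.Linear.ShortPres.SLN.Seven

open Equiv Matrix
open scoped MatrixGroups

variable {F : Type*} [Field F]

/-- Exchanging the two coordinates. -/
def sw : SL(2, F) ≃* SL(2, F) := rex (swap (0 : Fin 2) 1)

theorem sw_coe (g : SL(2, F)) :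
    (sw g : Matrix (Fin 2) (Fin 2) F) = !![g.1 1 1, g.1 1 0; g.1 0 1, g.1 0 0] := by
  ext i j; fin_cases i <;> fin_cases j <;> simp [sw, rex_coe]

theorem sw_sw (g : SL(2, F)) : sw (sw g) = g := by
  refine Subtype.ext ?_
  ext i j; fin_cases i <;> fin_cases j <;> simp [sw_coe]

theorem closure_pair_sw (u : SL(2, F)) {g : SL(2, F)}
    (h : g ∈ Subgroup.closure ({u, sw u} : Set SL(2, F))) :
    sw g ∈ Subgroup.closure ({u, sw u} : Set SL(2, F)) := by
  refine (?_ : Subgroup.closure ({u, sw u} : Set SL(2, F)) ≤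
    (Subgroup.closure ({u, sw u} : Set SL(2, F))).comap (sw (F := F)).toMonoidHom) h
  rw [Subgroup.closure_le]
  rintro x (rfl | rfl) <;> rw [SetLike.mem_coe, Subgroup.mem_comap, MulEquiv.coe_toMonoidHom]
  · exact Subgroup.subset_closure (Or.inr rfl)
  · rw [sw_sw]
    exact Subgroup.subset_closure (Or.inl rfl)

/-- Upper unitriangular elements suffice. -/
theorem top_of_xs (u : SL(2, F)) (h : ∀ c, xs c ∈ Subgroup.closure ({u, sw u} : Set SL(2, F))) :
    Subgroup.closure ({u, sw u} : Set SL(2, F)) = ⊤ := by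
  refine closure_gens h ?_
  have e : (ts : SL(2, F)) = xs 1 * sw (xs (-1)) * xs 1 := by
    refine Subtype.ext ?_
    ext i j; fin_cases i <;> fin_cases j <;>
      simp [ts_coe, xs_coe, sw_coe, Matrix.mul_apply, Fin.sum_univ_two]
  rw [e]
  exact mul_mem (mul_mem (h 1) (closure_pair_sw u (h (-1)))) (h 1)

/-- The inverse transpose. -/
def star : SL(2, F) ≃* SL(2, F) := MulAut.conj ts

theorem star_coe (g : SL(2, F)) :
    (star g : Matrix (Fin 2) (Fin 2) F) = !![g.1 1 1, -g.1 1 0; -g.1 0 1, g.1 0 0] := by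
  rw [star, MulAut.conj_apply]
  ext i j; fin_cases i <;> fin_cases j <;>
    simp [ts_coe, Matrix.vecMul, dotProduct, Matrix.mul_apply, Fin.sum_univ_two, Matrix.SpecialLinearGroup.coe_inv, Matrix.adjugate_fin_two]

theorem star_star (g : SL(2, F)) : star (star g) = g := by
  refine Subtype.ext ?_
  ext i j; fin_cases i <;> fin_cases j <;> simp [star_coe]

theorem star_sw (g : SL(2, F)) : star (sw g) = sw (star g) := by
  refine Subtype.ext ?_
  ext i j; fin_cases i <;> fin_cases j <;> simp [star_coe, sw_coe]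

theorem closure_pair_star (u : SL(2, F)) {g : SL(2, F)}
    (h : g ∈ Subgroup.closure ({u, star u} : Set SL(2, F))) :
    star g ∈ Subgroup.closure ({u, star u} : Set SL(2, F)) := by
  refine (?_ : Subgroup.closure ({u, star u} : Set SL(2, F)) ≤
    (Subgroup.closure ({u, star u} : Set SL(2, F))).comap (star (F := F)).toMonoidHom) h
  rw [Subgroup.closure_le]
  rintro x (rfl | rfl) <;> rw [SetLike.mem_coe, Subgroup.mem_comap, MulEquiv.coe_toMonoidHom]
  · exact Subgroup.subset_closure (Or.inr rfl)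
  · rw [star_star]
    exact Subgroup.subset_closure (Or.inl rfl)

/-- Upper unitriangular elements suffice. -/
theorem top_of_xs_star (u : SL(2, F)) (h : ∀ c, xs c ∈ Subgroup.closure ({u, star u} : Set SL(2, F))) :
    Subgroup.closure ({u, star u} : Set SL(2, F)) = ⊤ := by
  refine closure_gens h ?_
  have e : (ts : SL(2, F)) = xs 1 * star (xs 1) * xs 1 := by
    refine Subtype.ext ?_
    ext i j; fin_cases i <;> fin_cases j <;>
      simp [ts_coe, xs_coe, star_coe, Matrix.mul_apply, Fin.sum_univ_two]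
  rw [e]
  exact mul_mem (mul_mem (h 1) (closure_pair_star u (h 1))) (h 1)

section Even

variable [CharP F 2]

theorem star_eq_sw (g : SL(2, F)) : star g = sw g := Subtype.ext (by
  ext i j; fin_cases i <;> fin_cases j <;> simp [star_coe, sw_coe, CharTwo.neg_eq])

theorem dj_top {ζ : Fˣ} (hgen : ∀ x : Fˣ, ∃ i : ℕ, x = ζ ^ i) (h1 : (ζ : F) ≠ 1) {S : Subgroup SL(2, F)}
    (hd : ds ζ ∈ S) (hj : xs (ζ : F) * ts * xs (ζ : F) ∈ S) : S = ⊤ := by
  have : Fact (Nat.Prime 2) := ⟨Nat.prime_two⟩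
  have h2 : (2 : F) = 0 := CharTwo.two_eq_zero
  set a : F := (ζ : F) with ha
  have a0 : a ≠ 0 := ζ.ne_zero
  have hB : a ^ 2 + 1 ≠ 0 := fun e => h1 (by
    have h : (a + 1) ^ 2 = 0 := by linear_combination e + a * h2
    linear_combination eq_zero_of_pow_eq_zero h - h2)
  have hdd : ∀ x : Fˣ, ds x ∈ S := fun x => by
    obtain ⟨i, rfl⟩ := hgen x
    rw [ds_pow]
    exact pow_mem hd i
  let J : Fˣ → SL(2, F) := fun t => ds t * (xs a * ts * xs a) * (ds t)⁻¹
  have hJm : ∀ t, J t ∈ S := fun t => mul_mem (mul_mem (hdd t) hj) (inv_mem (hdd t))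
  have hJ : ∀ t : Fˣ, (J t : Matrix (Fin 2) (Fin 2) F) = !![a, (a ^ 2 + 1) * (t : F) ^ 2; ((t : F) ^ 2)⁻¹, a] := by
    intro t
    have ht : (t : F) ≠ 0 := t.ne_zero
    show ((ds t * (xs a * ts * xs a) * (ds t)⁻¹ : SL(2, F)) : Matrix (Fin 2) (Fin 2) F) = _
    rw [← ds_inv]
    simp only [Matrix.SpecialLinearGroup.coe_mul, ds_coe, xs_coe, ts_coe, inv_inv, Units.val_inv_eq_inv_val]
    ext i j; fin_cases i <;> fin_cases j <;>
      simp [Matrix.mul_apply, Fin.sum_univ_two, CharTwo.neg_eq] <;> field_simp <;> ring_nf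
  set w : Fˣ := Units.mk0 (a + 1) (fun e => hB (by linear_combination (a + 1) * e - a * h2)) with hw
  have hw2 : (w : F) ^ 2 = a ^ 2 + 1 := by rw [hw, Units.val_mk0]; linear_combination a * h2
  have key : ds (ζ ^ 3) * (J 1 * J ζ * J (ζ ^ 2 * w⁻¹)) = xs (a ^ 7) := by
    refine Subtype.ext ?_
    simp only [Matrix.SpecialLinearGroup.coe_mul, hJ, ds_coe, xs_coe, Units.val_one, Units.val_mul,
      Units.val_pow_eq_pow_val, Units.val_inv_eq_inv_val, mul_pow, inv_pow, hw2, ← ha]
    ext i j; fin_cases i <;> fin_cases j <;> simp [Matrix.mul_apply, Fin.sum_univ_two] <;> field_simp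
    · linear_combination (a ^ 6 + 2 * a ^ 4 + 2 * a ^ 2) * h2
    · linear_combination (a ^ 4 + a ^ 2 + 1) * h2
    · exact Or.inr (by linear_combination (a ^ 2 + 1) ^ 2 * h2)
    · linear_combination (a ^ 2 + 1) * h2
  have h7 : xs (a ^ 7) ∈ S :=
    key ▸ mul_mem (hdd _) (mul_mem (mul_mem (hJm 1) (hJm ζ)) (hJm _))
  have hall : ∀ c, xs c ∈ S := by
    intro c
    rcases eq_or_ne c 0 with rfl | hc
    · rw [xs_zero]; exact one_mem _
    have : Finite F := Finite.of_finite_univ <| by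
      have hf : IsOfFinOrder ζ := by
        obtain ⟨i, hi⟩ := hgen ζ⁻¹
        exact isOfFinOrder_iff_pow_eq_one.2 ⟨i + 1, by omega, by rw [pow_succ, ← hi, inv_mul_cancel]⟩
      refine ((Set.finite_range fun i : Fin (orderOf ζ) => ((ζ : F) ^ (i : ℕ))).insert 0).subset fun x _ => ?_
      rcases eq_or_ne x 0 with rfl | hx
      · exact Set.mem_insert _ _
      obtain ⟨i, hi⟩ := hgen (Units.mk0 x hx)
      refine Or.inr ⟨⟨i % orderOf ζ, Nat.mod_lt _ hf.orderOf_pos⟩, ?_⟩
      show (ζ : F) ^ (i % orderOf ζ) = x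
      rw [← Units.val_pow_eq_pow_val, pow_mod_orderOf, ← hi, Units.val_mk0]
    obtain ⟨e, he⟩ := FiniteField.isSquare_of_char_two (ringChar.eq F 2) (c / a ^ 7)
    have he0 : e ≠ 0 := fun h => div_ne_zero hc (pow_ne_zero 7 a0) (by rw [he, h, mul_zero])
    have := mul_mem (mul_mem (hdd (Units.mk0 e he0)) h7) (inv_mem (hdd (Units.mk0 e he0)))
    rwa [ds_conj, Units.val_mk0, pow_two, ← he, div_mul_cancel₀ _ (pow_ne_zero 7 a0)] at this
  refine closure_gens hall ?_
  have := mul_mem (mul_mem (inv_mem (hall a)) hj) (inv_mem (hall a))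
  simpa [mul_assoc] using this

theorem pair_even {ζ : Fˣ} (hgen : ∀ x : Fˣ, ∃ i : ℕ, x = ζ ^ i) (h1 : (ζ : F) ≠ 1) :
    ∃ u : SL(2, F), Subgroup.closure ({u, sw u} : Set SL(2, F)) = ⊤ := by
  set v : SL(2, F) := xs (ζ : F) with hv
  have hvv : v * v = 1 := by rw [hv, ← xs_add, CharTwo.add_self_eq_zero, xs_zero]
  have hvi : v⁻¹ = v := inv_eq_of_mul_eq_one_right hvv
  refine ⟨v * ds ζ * v, top_of_xs _ fun c => ?_⟩
  set u := v * ds ζ * v with hu
  set H := Subgroup.closure ({u, sw u} : Set SL(2, F)) with hH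
  have huH : u ∈ H := Subgroup.subset_closure (Or.inl rfl)
  have hts : ∀ g : SL(2, F), ts * g * ts⁻¹ = sw g := fun g => by
    rw [mul_inv_eq_iff_eq_mul]
    refine Subtype.ext ?_
    ext i j; fin_cases i <;> fin_cases j <;>
      simp [ts_coe, sw_coe, Matrix.mul_apply, Fin.sum_univ_two, CharTwo.neg_eq]
  have hK : Subgroup.closure ({u, ts} : Set SL(2, F)) = ⊤ := by
    let e : SL(2, F) ≃* SL(2, F) := MulAut.conj v
    have he : ∀ g, e g = v * g * v := fun g => by simp [e, hvi]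
    have h := dj_top hgen h1 (S := (Subgroup.closure ({u, ts} : Set SL(2, F))).comap e.toMonoidHom)
      (by
        rw [Subgroup.mem_comap, MulEquiv.coe_toMonoidHom, he]
        exact Subgroup.subset_closure (Or.inl rfl))
      (by
        rw [Subgroup.mem_comap, MulEquiv.coe_toMonoidHom, he, ← hv]
        have : v * (v * ts * v) * v = (v * v) * ts * (v * v) := by simp [mul_assoc]
        rw [this, hvv, one_mul, mul_one]
        exact Subgroup.subset_closure (Or.inr rfl))
    refine eq_top_iff.2 fun g _ => ?_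
    have hg := h ▸ Subgroup.mem_top (e.symm g)
    rw [Subgroup.mem_comap, MulEquiv.coe_toMonoidHom, MulEquiv.apply_symm_apply] at hg
    exact hg
  have hN : H.Normal := by
    refine ⟨fun n hn g => ?_⟩
    have hsub : Subgroup.closure ({u, ts} : Set SL(2, F)) ≤ Subgroup.normalizer (H : Set SL(2, F)) := by
      rw [Subgroup.closure_le]
      rintro x (rfl | rfl)
      · exact Subgroup.le_normalizer huH
      · rw [SetLike.mem_coe, Subgroup.mem_normalizer_iff]
        intro n
        constructor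
        · intro hn; rw [hts]; exact closure_pair_sw u hn
        · intro hn
          rw [hts] at hn
          simpa [sw_sw] using closure_pair_sw u hn
    exact (Subgroup.mem_normalizer_iff.1 (hsub (hK ▸ Subgroup.mem_top g)) n).1 hn
  -- the quotient is generated by the image of the Weyl element, so it is commutative
  have htop : ∀ g : SL(2, F), QuotientGroup.mk' H g ∈ Subgroup.zpowers (QuotientGroup.mk' H ts) := by
    have : (Subgroup.zpowers (QuotientGroup.mk' H ts)).comap (QuotientGroup.mk' H) = ⊤ := by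
      rw [eq_top_iff, ← hK, Subgroup.closure_le]
      rintro x (rfl | rfl)
      · rw [SetLike.mem_coe, Subgroup.mem_comap, show QuotientGroup.mk' H u = 1 from (QuotientGroup.eq_one_iff u).2 huH]
        exact one_mem _
      · rw [SetLike.mem_coe, Subgroup.mem_comap]
        exact Subgroup.mem_zpowers _
    exact fun g => Subgroup.mem_comap.1 (this ▸ Subgroup.mem_top g)
  have hne : (ζ : F) ^ 2 + 1 ≠ 0 := fun e => h1 (by
    have h : ((ζ : F) + 1) ^ 2 = 0 := by linear_combination e + (ζ : F) * CharTwo.two_eq_zero (R := F)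
    linear_combination eq_zero_of_pow_eq_zero h - CharTwo.two_eq_zero (R := F))
  set b := c / ((ζ : F) ^ 2 + 1) with hb
  have hc : xs c = ds ζ * xs b * (ds ζ)⁻¹ * (xs b)⁻¹ := by
    rw [ds_conj, ← xs_neg, ← xs_add, CharTwo.neg_eq, ← add_one_mul, hb, mul_div_cancel₀ _ hne]
  rw [← QuotientGroup.eq_one_iff, hc]
  obtain ⟨k, hk⟩ := Subgroup.mem_zpowers_iff.1 (htop (ds ζ))
  obtain ⟨l, hl⟩ := Subgroup.mem_zpowers_iff.1 (htop (xs b))
  show QuotientGroup.mk' H (ds ζ * xs b * (ds ζ)⁻¹ * (xs b)⁻¹) = 1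
  rw [map_mul, map_mul, map_mul, map_inv, map_inv, ← hk, ← hl, (Commute.zpow_zpow_self _ k l).eq,
    mul_inv_cancel_right, mul_inv_cancel]

end Even

section Odd

variable [Fintype F]

/-- Scaling the second coordinate. -/
def scale (t : Fˣ) : SL(2, F) →* SL(2, F) :=
  MonoidHom.mk' (fun g => ⟨!![g.1 0 0, ((t⁻¹ : Fˣ) : F) * g.1 0 1; (t : F) * g.1 1 0, g.1 1 1], by
      have := g.2
      rw [Matrix.det_fin_two] at this
      rw [Matrix.det_fin_two_of]
      have ht : ((t⁻¹ : Fˣ) : F) * (t : F) = 1 := by rw [← Units.val_mul, inv_mul_cancel, Units.val_one]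
      linear_combination this - g.1 0 1 * g.1 1 0 * ht⟩)
    fun g h => by
      have ht : ((t⁻¹ : Fˣ) : F) * (t : F) = 1 := by rw [← Units.val_mul, inv_mul_cancel, Units.val_one]
      refine Subtype.ext ?_
      show !![(g * h).1 0 0, ((t⁻¹ : Fˣ) : F) * (g * h).1 0 1; (t : F) * (g * h).1 1 0, (g * h).1 1 1] =
        !![g.1 0 0, ((t⁻¹ : Fˣ) : F) * g.1 0 1; (t : F) * g.1 1 0, g.1 1 1] *
          !![h.1 0 0, ((t⁻¹ : Fˣ) : F) * h.1 0 1; (t : F) * h.1 1 0, h.1 1 1]
      rw [Matrix.mul_fin_two]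
      simp only [Matrix.SpecialLinearGroup.coe_mul, Matrix.mul_apply, Fin.sum_univ_two]
      ext i j; fin_cases i <;> fin_cases j <;> simp only [Matrix.cons_val', Matrix.cons_val_zero, Matrix.cons_val_one,
        Matrix.empty_val', Matrix.cons_val_fin_one, Matrix.of_apply, Fin.isValue, Fin.mk_one, Fin.zero_eta]
      · linear_combination (-(g.1 0 1 * h.1 1 0)) * ht
      · ring
      · ring
      · linear_combination (-(g.1 1 0 * h.1 0 1)) * ht

theorem scale_coe (t : Fˣ) (g : SL(2, F)) : (scale t g : Matrix (Fin 2) (Fin 2) F) =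
    !![g.1 0 0, ((t⁻¹ : Fˣ) : F) * g.1 0 1; (t : F) * g.1 1 0, g.1 1 1] := rfl

theorem scale_surjective (t : Fˣ) : Function.Surjective (scale (F := F) t) := fun g =>
  ⟨scale t⁻¹ g, Subtype.ext (by ext i j; fin_cases i <;> fin_cases j <;> simp [scale_coe])⟩

theorem subfield_sq {ζ : Fˣ} (hord : orderOf (ζ : F) = Fintype.card F - 1) :
    Subfield.closure ({(ζ : F) ^ 2} : Set F) = ⊤ := by
  classical
  obtain ⟨K, hK₀⟩ : ∃ K : Subfield F, K = Subfield.closure ({(ζ : F) ^ 2} : Set F) := ⟨_, rfl⟩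
  rw [← hK₀]
  have hζK : (ζ : F) ^ 2 ∈ K := hK₀ ▸ Subfield.subset_closure rfl
  set m := (Fintype.card F - 1 + 1) / 2 with hm
  have h2 : 2 ≤ Fintype.card F := Fintype.one_lt_card
  let f : Option (Fin m) → K := fun o => o.elim 0 fun i =>
    ⟨((ζ : F) ^ 2) ^ (i : ℕ), pow_mem hζK _⟩
  have hf : Function.Injective f := by
    rintro (_ | i) (_ | j) h
    · rfl
    · exact absurd (congrArg Subtype.val h).symm (pow_ne_zero _ (pow_ne_zero _ ζ.ne_zero))
    · exact absurd (congrArg Subtype.val h) (pow_ne_zero _ (pow_ne_zero _ ζ.ne_zero))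
    · refine congrArg some (Fin.ext ?_)
      have h' : (ζ : F) ^ (2 * (i : ℕ)) = (ζ : F) ^ (2 * (j : ℕ)) := by
        have := congrArg Subtype.val h
        simpa [f, ← pow_mul] using this
      have := pow_injOn_Iio_orderOf (show 2 * (i : ℕ) ∈ Set.Iio (orderOf (ζ : F)) by
          rw [Set.mem_Iio, hord]; omega) (show 2 * (j : ℕ) ∈ Set.Iio (orderOf (ζ : F)) by
          rw [Set.mem_Iio, hord]; omega) h'
      omega
  have hle := Nat.card_le_card_of_injective f hf
  rw [Nat.card_eq_fintype_card, Fintype.card_option, Fintype.card_fin] at hle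
  have hdvd : Nat.card K.toAddSubgroup ∣ Nat.card F := AddSubgroup.card_addSubgroup_dvd_card _
  have hK : Nat.card K.toAddSubgroup = Nat.card K := rfl
  rw [hK] at hdvd
  have hKF : Nat.card K ≤ Nat.card F := Nat.le_of_dvd Nat.card_pos hdvd
  have heq : Nat.card K = Nat.card F := by
    obtain ⟨c, hc⟩ := hdvd
    rcases c with _ | _ | c
    · simp at hc
    · simpa using hc.symm
    · exfalso
      rw [Nat.card_eq_fintype_card (α := F)] at hc
      have : Nat.card K * 2 ≤ Nat.card K * (c + 1 + 1) := Nat.mul_le_mul_left _ (by omega)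
      omega
  refine eq_top_iff.2 fun x _ => ?_
  obtain ⟨y, rfl⟩ := ((Nat.bijective_iff_injective_and_card (Subtype.val : K → F)).2
    ⟨Subtype.val_injective, heq⟩).2 x
  exact y.2

theorem pair_nine (h2 : (2 : F) ≠ 0) (h9 : Fintype.card F = 9) {η : Fˣ}
    (hgen : ∀ x : Fˣ, ∃ i : ℕ, x = η ^ i) (hord : orderOf (η : F) = 8) :
    ∃ u : SL(2, F), Subgroup.closure ({u, sw u} : Set SL(2, F)) = ⊤ ∧
      Subgroup.closure ({u, star u} : Set SL(2, F)) = ⊤ := by
  have h3 : (3 : F) = 0 := by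
    have : ((Fintype.card F : ℕ) : F) = 0 := FiniteField.cast_card_eq_zero F
    rw [h9] at this
    exact mul_self_eq_zero.1 (by rw [← this]; norm_num)
  have h8 : (η : F) ^ 8 = 1 := hord ▸ pow_orderOf_eq_one _
  have h4 : (η : F) ^ 4 ≠ 1 := fun e => by
    have := Nat.le_of_dvd (by norm_num) (orderOf_dvd_of_pow_eq_one e)
    omega
  have h4' : (η : F) ^ 4 = -1 := by
    have : ((η : F) ^ 4 - 1) * ((η : F) ^ 4 + 1) = 0 := by linear_combination h8
    rcases mul_eq_zero.1 this with h | h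
    · exact absurd (sub_eq_zero.1 h) h4
    · linear_combination h
  obtain ⟨z, hz, hgz⟩ : ∃ z : Fˣ, (z : F) ^ 2 = (z : F) + 1 ∧ ∀ x : Fˣ, ∃ i : ℕ, x = z ^ i := by
    have : ((η : F) ^ 2 - η - 1) * ((η : F) ^ 2 + η - 1) = 0 := by linear_combination h4' - (η : F) ^ 2 * h3
    rcases mul_eq_zero.1 this with h | h
    · exact ⟨η, by linear_combination h, hgen⟩
    · refine ⟨-η, by rw [Units.val_neg]; linear_combination h, fun x => ?_⟩
      obtain ⟨i, rfl⟩ := hgen x
      rcases Nat.even_or_odd i with hi | hi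
      · exact ⟨i, by rw [hi.neg_pow]⟩
      · refine ⟨i + 4, ?_⟩
        rw [(hi.add_even (by decide)).neg_pow, pow_add]
        ext
        simp [h4']
  set a := (z : F) with ha
  have hinv : ((z⁻¹ : Fˣ) : F) = a - 1 := by
    rw [Units.val_inv_eq_inv_val, inv_eq_of_mul_eq_one_right]
    linear_combination hz
  refine ⟨⟨!![a, a; 0, a - 1], by rw [Matrix.det_fin_two_of]; linear_combination hz⟩, ?_⟩
  set u : SL(2, F) := ⟨!![a, a; 0, a - 1], by rw [Matrix.det_fin_two_of]; linear_combination hz⟩ with hu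
  have hall : ∀ (H : Subgroup SL(2, F)), u ∈ H → xs (-a) ∈ H → ∀ c, xs c ∈ H := by
    intro H hu' hone c
    have hconj : ∀ x, xs x ∈ H → xs (a ^ 2 * x) ∈ H := fun x hx => by
      have e : u * xs x * u⁻¹ = xs (a ^ 2 * x) := by
        rw [mul_inv_eq_iff_eq_mul]
        refine Subtype.ext ?_
        simp only [Matrix.SpecialLinearGroup.coe_mul, xs_coe]
        show !![a, a; 0, a - 1] * !![1, x; 0, 1] = !![1, a ^ 2 * x; 0, 1] * !![a, a; 0, a - 1]
        ext i j; fin_cases i <;> fin_cases j <;> simp [Matrix.mul_apply, Fin.sum_univ_two]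
        linear_combination (-(a * x)) * hz
      rw [← e]; exact mul_mem (mul_mem hu' hx) (inv_mem hu')
    let S : AddSubgroup F :=
      { carrier := {x | xs x ∈ H}
        add_mem' := fun {x y} hx hy => show xs (x + y) ∈ H by rw [xs_add]; exact mul_mem hx hy
        zero_mem' := show xs (0 : F) ∈ H by rw [xs_zero]; exact one_mem _
        neg_mem' := fun {x} hx => show xs (-x) ∈ H by rw [xs_neg]; exact inv_mem hx }
    have hodd : ∀ i : ℕ, a ^ (2 * i + 1) ∈ S := by
      intro i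
      induction i with
      | zero => simpa using neg_mem (show -a ∈ S from hone)
      | succ i ih =>
        rw [show 2 * (i + 1) + 1 = 2 + (2 * i + 1) by ring, pow_add]
        exact hconj _ ih
    have heven : ∀ i : ℕ, a ^ (2 * (i + 1)) ∈ S := fun i => by
      rw [show a ^ (2 * (i + 1)) = a ^ (2 * (i + 1) + 1) - a ^ (2 * i + 1) by
        rw [show 2 * (i + 1) = 2 * i + 2 by ring, pow_succ _ (2 * i + 2)]
        linear_combination (-a ^ (2 * i + 1)) * hz]
      exact sub_mem (hodd _) (hodd _)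
    show c ∈ S
    rcases eq_or_ne c 0 with rfl | hc
    · exact zero_mem _
    obtain ⟨i, hi⟩ := hgz (Units.mk0 c hc)
    have hci : c = a ^ i := by rw [ha, ← Units.val_pow_eq_pow_val, ← hi, Units.val_mk0]
    have h8' : a ^ 8 = 1 := by
      rw [show a ^ 8 = (a ^ 2) ^ 4 by ring, hz]
      linear_combination (a ^ 2 + 5 * a + 12) * hz + (7 * a + 4) * h3
    rcases Nat.even_or_odd' i with ⟨j, rfl | rfl⟩
    · rw [hci, show a ^ (2 * j) = a ^ (2 * (j + 3 + 1)) by
        rw [show 2 * (j + 3 + 1) = 2 * j + 8 by ring, pow_add, h8', mul_one]]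
      exact heven _
    · rw [hci]; exact hodd j

  refine ⟨top_of_xs u (hall _ (Subgroup.subset_closure (Or.inl rfl)) ?_),
    top_of_xs_star u (hall _ (Subgroup.subset_closure (Or.inl rfl)) ?_)⟩
  · set H := Subgroup.closure ({u, sw u} : Set SL(2, F))
    have hu' : u ∈ H := Subgroup.subset_closure (Or.inl rfl)
    have hv' : sw u ∈ H := Subgroup.subset_closure (Or.inr rfl)
    have key : u * u * u * sw u * sw u * u * sw u = xs (-a) := by
      refine Subtype.ext ?_
      simp only [Matrix.SpecialLinearGroup.coe_mul, sw_coe, xs_coe]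
      show !![a, a; 0, a - 1] * !![a, a; 0, a - 1] * !![a, a; 0, a - 1] * !![a - 1, 0; a, a] * !![a - 1, 0; a, a] *
        !![a, a; 0, a - 1] * !![a - 1, 0; a, a] = _
      have r : ∀ p q r s p' q' r' s' : F, !![p, q; r, s] * !![p', q'; r', s'] =
          !![p * p' + q * r', p * q' + q * s'; r * p' + s * r', r * q' + s * s'] := fun _ _ _ _ _ _ _ _ =>
        Matrix.mul_fin_two _ _ _ _ _ _ _ _
      simp only [r]
      ext i j; fin_cases i <;> fin_cases j <;>
        simp only [Matrix.cons_val', Matrix.cons_val_zero, Matrix.cons_val_one, Matrix.cons_val_fin_one, Matrix.of_apply,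
          Fin.isValue, Fin.mk_one, Fin.zero_eta]
      · linear_combination (25 * a ^ 0 + 26 * a ^ 1 + -1 * a ^ 2 + 26 * a ^ 3 + -18 * a ^ 4 + 17 * a ^ 5 : F) * hz + (8 * a ^ 0 + 17 * a ^ 1 : F) * h3
      · linear_combination (21 * a ^ 0 + 17 * a ^ 1 + 4 * a ^ 2 + 13 * a ^ 3 + -7 * a ^ 4 + 10 * a ^ 5 : F) * hz + (7 * a ^ 0 + 13 * a ^ 1 : F) * h3
      · linear_combination (-6 * a ^ 0 + 12 * a ^ 1 + -17 * a ^ 2 + 21 * a ^ 3 + -15 * a ^ 4 + 5 * a ^ 5 : F) * hz + (-2 * a ^ 0 + 2 * a ^ 1 : F) * h3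
      · linear_combination (-2 * a ^ 0 + 5 * a ^ 1 + -7 * a ^ 2 + 10 * a ^ 3 + -8 * a ^ 4 + 3 * a ^ 5 : F) * hz + (-1 * a ^ 0 + 1 * a ^ 1 : F) * h3
    exact key ▸ mul_mem (mul_mem (mul_mem (mul_mem (mul_mem (mul_mem hu' hu') hu') hv') hv') hu') hv'
  · set H := Subgroup.closure ({u, star u} : Set SL(2, F))
    have hu' : u ∈ H := Subgroup.subset_closure (Or.inl rfl)
    have hv' : star u ∈ H := Subgroup.subset_closure (Or.inr rfl)
    have key : star u * u * u * star u * u * star u * star u * u * star u = xs a := by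
      refine Subtype.ext ?_
      simp only [Matrix.SpecialLinearGroup.coe_mul, star_coe, xs_coe]
      show !![a - 1, -0; -a, a] * !![a, a; 0, a - 1] * !![a, a; 0, a - 1] * !![a - 1, -0; -a, a] * !![a, a; 0, a - 1] *
        !![a - 1, -0; -a, a] * !![a - 1, -0; -a, a] * !![a, a; 0, a - 1] * !![a - 1, -0; -a, a] = _
      rw [neg_zero]
      have r : ∀ p q r s p' q' r' s' : F, !![p, q; r, s] * !![p', q'; r', s'] =
          !![p * p' + q * r', p * q' + q * s'; r * p' + s * r', r * q' + s * s'] := fun _ _ _ _ _ _ _ _ =>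
        Matrix.mul_fin_two _ _ _ _ _ _ _ _
      simp only [r]
      ext i j; fin_cases i <;> fin_cases j <;>
        simp only [Matrix.cons_val', Matrix.cons_val_zero, Matrix.cons_val_one, Matrix.cons_val_fin_one, Matrix.of_apply,
          Fin.isValue, Fin.mk_one, Fin.zero_eta]
      · linear_combination (1 * a ^ 0 + -4 * a ^ 1 + 5 * a ^ 2 + -9 * a ^ 3 + 13 * a ^ 4 + -14 * a ^ 5 + 7 * a ^ 6 + -1 * a ^ 7 : F) * hz + (-1 * a ^ 1 : F) * h3
      · linear_combination (3 * a ^ 0 + 1 * a ^ 1 + 2 * a ^ 2 + -1 * a ^ 3 + 3 * a ^ 4 + -4 * a ^ 5 + 5 * a ^ 6 + -2 * a ^ 7 : F) * hz + (1 * a ^ 0 + 1 * a ^ 1 : F) * h3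
      · linear_combination (3 * a ^ 0 + 3 * a ^ 2 + -3 * a ^ 3 + 4 * a ^ 4 + 1 * a ^ 5 + -4 * a ^ 6 + 1 * a ^ 7 : F) * hz + (1 * a ^ 0 + 1 * a ^ 1 : F) * h3
      · linear_combination (-5 * a ^ 0 + -4 * a ^ 1 + -1 * a ^ 2 + -3 * a ^ 3 + 2 * a ^ 4 + -4 * a ^ 5 + 1 * a ^ 6 + 1 * a ^ 7 : F) * hz + (-2 * a ^ 0 + -3 * a ^ 1 : F) * h3
    rw [xs_neg]
    refine inv_mem ?_
    rw [← key]
    exact mul_mem (mul_mem (mul_mem (mul_mem (mul_mem (mul_mem (mul_mem (mul_mem hv' hu') hu') hv') hu') hv') hv') hu') hv'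

theorem exists_pair_star : ∃ u : SL(2, F), Subgroup.closure ({u, sw u} : Set SL(2, F)) = ⊤ ∧
    Subgroup.closure ({u, star u} : Set SL(2, F)) = ⊤ := by
  classical
  obtain ⟨ζ, hζ⟩ := IsCyclic.exists_generator (α := Fˣ)
  have hgen : ∀ x : Fˣ, ∃ i : ℕ, x = ζ ^ i := fun x => by
    obtain ⟨i, hi⟩ := mem_powers_iff_mem_zpowers.2 (hζ x)
    exact ⟨i, hi.symm⟩
  have hord : orderOf (ζ : F) = Fintype.card F - 1 := by
    rw [orderOf_units, orderOf_eq_card_of_forall_mem_zpowers hζ, Nat.card_units, Nat.card_eq_fintype_card]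
  by_cases h2 : (2 : F) = 0
  · haveI : CharP F 2 := by
      obtain ⟨p, hp⟩ := CharP.exists F
      have h : p ∣ 2 := (CharP.cast_eq_zero_iff F p 2).1 (by exact_mod_cast h2)
      rcases (Nat.dvd_prime Nat.prime_two).1 h with rfl | rfl
      · exact absurd rfl (CharP.char_ne_one F 1)
      · exact hp
    by_cases h1 : (ζ : F) = 1
    · suffices h : Subgroup.closure ({xs 1, sw (xs 1)} : Set SL(2, F)) = ⊤ from
        ⟨xs 1, h, by rwa [star_eq_sw]⟩
      refine top_of_xs _ fun c => ?_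
      rcases eq_or_ne c 0 with rfl | hc
      · rw [xs_zero]; exact one_mem _
      obtain ⟨i, hi⟩ := hgen (Units.mk0 c hc)
      have : c = 1 := by
        have := congrArg Units.val hi
        rwa [Units.val_mk0, Units.val_pow_eq_pow_val, h1, one_pow] at this
      subst this
      exact Subgroup.subset_closure (Or.inl rfl)
    · obtain ⟨u, hu⟩ := pair_even hgen h1
      exact ⟨u, hu, by rwa [star_eq_sw]⟩
  by_cases h9 : Fintype.card F = 9
  · exact pair_nine h2 h9 hgen (by omega)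
  have hsq := subfield_sq hord
  rcases Cfsg.Agent.S0801.result h2 ((ζ : F) ^ 2) (pow_ne_zero _ ζ.ne_zero) hsq with ⟨htop, -⟩ | ⟨h, -, -⟩
  swap
  · exact absurd h h9
  have hst : star (xs (ζ : F)) = (sw (xs (ζ : F)))⁻¹ := by
    rw [← map_inv, ← xs_neg]
    refine Subtype.ext ?_
    ext i j; fin_cases i <;> fin_cases j <;> simp [star_coe, sw_coe, xs_coe]
  suffices htop' : Subgroup.closure ({xs (ζ : F), sw (xs (ζ : F))} : Set SL(2, F)) = ⊤ by
    refine ⟨xs (ζ : F), htop', eq_top_iff.2 ?_⟩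
    rw [← htop', Subgroup.closure_le]
    rintro x (rfl | rfl)
    · exact Subgroup.subset_closure (Or.inl rfl)
    · have h := inv_mem (Subgroup.subset_closure (k := ({xs (ζ : F), star (xs (ζ : F))} : Set SL(2, F))) (Or.inr rfl))
      rwa [hst, inv_inv, ← hst] at h
  rw [eq_top_iff, ← Subgroup.map_top_of_surjective _ (scale_surjective (F := F) ζ), ← htop, MonoidHom.map_closure,
    Subgroup.closure_le]
  rintro _ ⟨g, hg | hg, rfl⟩
  · have : scale ζ g = sw (xs (ζ : F)) := Subtype.ext (by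
      rw [scale_coe, sw_coe, xs_coe, hg]
      ext i j; fin_cases i <;> fin_cases j <;> simp)
    rw [this]; exact Subgroup.subset_closure (Or.inr rfl)
  · have : scale ζ g = xs (ζ : F) := Subtype.ext (by
      rw [scale_coe, xs_coe, hg]
      have := ζ.ne_zero
      ext i j; fin_cases i <;> fin_cases j <;> simp <;> field_simp)
    rw [this]; exact Subgroup.subset_closure (Or.inl rfl)

theorem exists_pair : ∃ u : SL(2, F), Subgroup.closure ({u, sw u} : Set SL(2, F)) = ⊤ :=
  ⟨_, (exists_pair_star (F := F)).choose_spec.1⟩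

end Odd

end Cfsg.Lib.Linear.ShortPres.SLN.Seven
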