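import Cfsg.Agent.Lib.Linear.ShortPres.On
import Cfsg.Agent.Lib.Linear.ShortPres.SLN.Main
import Cfsg.Agent.Lib.Linear.ShortPres.SLN.Seven.Cover
import Cfsg.Agent.Lib.Linear.ShortPres.SLN.Seven.Pair

/-!
# Special linear groups: five gluing relations
-/

set_option autoImplicit false

namespace Cfsg.Lib.Linear.ShortPres.SLN.Seven

open Equiv Matrix
open scoped MatrixGroups

variable {F : Type*} [Field F] (d : ℕ)

/-- The distinguished points. -/
abbrev p0 : Pt d := Sum.inl 0
/-- The distinguished points. -/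
abbrev p1 : Pt d := Sum.inl 1
/-- The distinguished points. -/
abbrev p2 : Pt d := Sum.inl 2
/-- The distinguished points. -/
abbrev p3 : Pt d := Sum.inr 0

/-- The double transposition of the four distinguished points. -/
def w2 : alternatingGroup (Pt d) :=
  ⟨swap (p0 d) (p1 d) * swap (p2 d) (p3 d), Perm.mem_alternatingGroup.2 (by
    rw [Perm.sign_mul, Perm.sign_swap (by simp), Perm.sign_swap (by simp)]; rfl)⟩

variable (F) in
/-- A presentation on four generators and permutation matrices generating the alternating group. -/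
def SLBase [Fintype F] (k r : ℕ) : Prop :=
  ∃ va : Fin k → alternatingGroup (Pt d), Subgroup.closure (Set.range va) = ⊤ ∧
    ∃ w : Fin 4 → SpecialLinearGroup (Pt d) F, BddOn (Fin.append w fun i => pm (va i)) r

variable {d} in
theorem SLBase.bddG [Fintype F] {k r : ℕ} (h : SLBase F d k r) : BddG (SpecialLinearGroup (Pt d) F) (4 + k) r := by
  obtain ⟨_, -, _, h⟩ := h
  exact h.bddG

set_option maxHeartbeats 4000000 in
/-- The gluing, remembering the generators. -/
theorem bddOn_SL [Fintype F] {k r s m : ℕ} (hT : BddG (alternatingGroup (Pt d)) k r)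
    (S12 : Fin s → alternatingGroup (Pt d)) (hS : ∀ a, (S12 a).1 (p0 d) = p0 d ∧ (S12 a).1 (p1 d) = p1 d)
    (hS' : ∀ π : alternatingGroup (Pt d), π.1 (p0 d) = p0 d → π.1 (p1 d) = p1 d →
      π ∈ Subgroup.closure (Set.range S12))
    (Ps : Fin m → alternatingGroup (Pt d))
    (hP : ∀ j, ((Ps j).1 (p0 d) ≠ p0 d ∧ (Ps j).1 (p0 d) ≠ p1 d) ∧ ((Ps j).1 (p1 d) ≠ p0 d ∧ (Ps j).1 (p1 d) ≠ p1 d))
    (hreach : ∀ a b : Pt d, a ≠ b → a ≠ p0 d → a ≠ p1 d → b ≠ p0 d → b ≠ p1 d →
      ∃ (j : Fin m) (π : alternatingGroup (Pt d)), π.1 (p0 d) = p0 d ∧ π.1 (p1 d) = p1 d ∧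
        π.1 ((Ps j).1 (p0 d)) = a ∧ π.1 ((Ps j).1 (p1 d)) = b) :
    SLBase F d k (13 + r + (2 + s + m)) := by
  classical
  obtain ⟨R3, ψ, hR3, hψs, hψc, hψA⟩ := exists_cover (F := F)
  have h3 : BddG (PresentedGroup (↑R3 : Set (FreeGroup (Fin 4)))) 4 13 := ⟨R3, hR3, ⟨MulEquiv.refl _⟩⟩
  obtain ⟨u, hu⟩ := exists_pair (F := F)
  obtain ⟨xu, hxu⟩ := hψs (rho u)
  obtain ⟨xu', hxu'⟩ := hψs (rho (sw u))
  obtain ⟨i0, hi0⟩ : ∃ x : Pt d, x = Sum.inl 0 := ⟨_, rfl⟩
  obtain ⟨i1, hi1⟩ : ∃ x : Pt d, x = Sum.inl 1 := ⟨_, rfl⟩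
  obtain ⟨i2, hi2⟩ : ∃ x : Pt d, x = Sum.inl 2 := ⟨_, rfl⟩
  obtain ⟨r0, hr0⟩ : ∃ x : Pt d, x = Sum.inr 0 := ⟨_, rfl⟩
  simp only [p0, p1, ← hi0, ← hi1] at hS hS' hP hreach
  have n01 : i0 ≠ i1 := by simp [hi0, hi1]
  have n02 : i0 ≠ i2 := by simp [hi0, hi2]
  have n12 : i1 ≠ i2 := by simp [hi1, hi2]
  have n0r : i0 ≠ r0 := by simp [hi0, hr0]
  have n1r : i1 ≠ r0 := by simp [hi1, hr0]
  have n2r : i2 ≠ r0 := by simp [hi2, hr0]
  let c3 : alternatingGroup (Pt d) := Alt.extA Function.Embedding.inl cA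
  have hc3 : ∀ a, c3.1 (Sum.inl a) = Sum.inl (cA.1 a) := fun a => Alt.extA_apply _ cA a
  obtain ⟨w, hw⟩ : ∃ w : alternatingGroup (Pt d), w = w2 d := ⟨_, rfl⟩
  have hw20 : w.1 i0 = i1 := by
    simp [hw, w2, p0, p1, p2, p3, hi0, hi1, Perm.mul_apply, swap_apply_def]
  have hw21 : w.1 i1 = i0 := by
    simp [hw, w2, p0, p1, p2, p3, hi0, hi1, Perm.mul_apply, swap_apply_def]
  have hww : w * w = 1 := Subtype.ext (by
    have hc : Commute (swap (p0 d) (p1 d)) (swap (p2 d) (p3 d)) :=
      (Perm.disjoint_iff_disjoint_support.2 (by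
        rw [Perm.support_swap (by simp), Perm.support_swap (by simp)]
        simp)).commute
    rw [hw]
    show swap (p0 d) (p1 d) * swap (p2 d) (p3 d) * (swap (p0 d) (p1 d) * swap (p2 d) (p3 d)) = 1
    rw [mul_assoc, ← mul_assoc (swap (p2 d) (p3 d)), ← hc.eq, mul_assoc, Equiv.swap_mul_self, mul_one, Equiv.swap_mul_self])
  let rs : Fin 2 ≃ Fin 2 := swap 0 1
  let C := PresentedGroup (↑R3 : Set (FreeGroup (Fin 4)))
  let A₀ : C → FreeGroup (C ⊕ alternatingGroup (Pt d)) := fun g => FreeGroup.of (Sum.inl g)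
  let B₀ : alternatingGroup (Pt d) → FreeGroup (C ⊕ alternatingGroup (Pt d)) := fun g => FreeGroup.of (Sum.inr g)
  let L : List (FreeGroup (C ⊕ alternatingGroup (Pt d)) × FreeGroup (C ⊕ alternatingGroup (Pt d))) :=
    [(B₀ c3, A₀ (PresentedGroup.of 3))] ++ [(B₀ w * A₀ xu * (B₀ w)⁻¹, A₀ xu')] ++
      ((List.finRange s).map fun a => (B₀ (S12 a) * A₀ xu, A₀ xu * B₀ (S12 a))) ++
      ((List.finRange m).map fun j =>
        (A₀ xu * (B₀ (Ps j) * A₀ xu * (B₀ (Ps j))⁻¹), B₀ (Ps j) * A₀ xu * (B₀ (Ps j))⁻¹ * A₀ xu))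
  -- the action of the permutations in the matrix group
  have hM : ∀ (π : alternatingGroup (Pt d)) (a b a' b' : Fin 3) (h : a ≠ b) (h' : a' ≠ b') (t : F),
      π.1 (Sum.inl a) = Sum.inl a' → π.1 (Sum.inl b) = Sum.inl b' →
      pm π * blk (Fin (d + 1)) (T h t) * (pm π)⁻¹ = (blk (Fin (d + 1)) (T h' t) : SpecialLinearGroup (Pt d) F) := by
    intro π a b a' b' h h' t e1 e2
    rw [blk_T, blk_T, pm_conj_T]
    exact T_congr _ t e1 e2
  have hcast : ∀ i : Fin 2, (Sum.inl (Fin.castAdd 1 i) : Pt d) = if i = 0 then i0 else i1 := fun i => by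
    fin_cases i <;> simp [hi0, hi1]
  have hgenψ : ∀ g : SL(3, F), blk (Fin (d + 1)) g ∈ Set.range ((blk (Fin (d + 1))).comp ψ) := fun g => by
    obtain ⟨x, rfl⟩ := hψs g
    exact ⟨x, rfl⟩
  obtain ⟨va, hva⟩ := hT.exists_on
  obtain ⟨u3, h3'⟩ := h3.exists_on
  refine ⟨va, hva.closure, _,
    ((h3'.combine_card hva ((blk (Fin (d + 1))).comp ψ) pm ?_ L ?_ ?_)).mono (by simp [L]; omega)⟩
  · rw [eq_top_iff, ← Cfsg.Lib.Linear.closure_transvection_eq_top (ι := Pt d) (F := F), Subgroup.closure_le]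
    rintro _ ⟨i, j, hij, t, rfl⟩
    let π₁ : Perm (Pt d) := swap (swap i0 i i1) j * swap i0 i
    have hne : swap i0 i i1 ≠ i := by
      intro e
      have := (swap i0 i).injective (e.trans (swap_apply_left i0 i).symm)
      exact n01 this.symm
    obtain ⟨π, hπ⟩ := exists_even π₁ n2r
    have e0 : π₁ i0 = i := by
      simp only [π₁, Perm.mul_apply, swap_apply_left]
      exact swap_apply_of_ne_of_ne hne.symm hij
    have e1 : π₁ i1 = j := by
      simp only [π₁, Perm.mul_apply, swap_apply_left]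
    have e0' : π.1 i0 = i := by
      rcases hπ with h | h <;> rw [h]
      · exact e0
      · rw [Perm.mul_apply, swap_apply_of_ne_of_ne n02 n0r, e0]
    have e1' : π.1 i1 = j := by
      rcases hπ with h | h <;> rw [h]
      · exact e1
      · rw [Perm.mul_apply, swap_apply_of_ne_of_ne n12 n1r, e1]
    have : T hij t = pm π * blk (Fin (d + 1)) (T (show (0 : Fin 3) ≠ 1 by decide) t) * (pm π)⁻¹ := by
      rw [blk_T, pm_conj_T]
      exact T_congr _ t (by rw [← e0', hi0]) (by rw [← e1', hi1])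
    show T hij t ∈ _
    rw [this]
    exact mul_mem (mul_mem (Subgroup.subset_closure (Or.inr ⟨π, rfl⟩)) (Subgroup.subset_closure (Or.inl (hgenψ _))))
      (inv_mem (Subgroup.subset_closure (Or.inr ⟨π, rfl⟩)))
  · simp only [L, List.forall_mem_append, List.forall_mem_map, List.forall_mem_singleton,
      A₀, B₀, map_mul, map_inv, FreeGroup.lift_apply_of, Sum.elim_inl, Sum.elim_inr, MonoidHom.comp_apply, hψc, hxu, hxu']
    refine ⟨⟨⟨pm_extA_inl cA, ?_⟩, fun a _ => ?_⟩, fun j _ => ?_⟩
    · have h : (MulAut.conj (pm w : SpecialLinearGroup (Pt d) F)).toMonoidHom.comp ((blk (Fin (d + 1))).comp rho) =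
          ((blk (Fin (d + 1))).comp rho).comp (rex rs).toMonoidHom := hom_ext fun a b hab t => by
        simp only [MonoidHom.comp_apply, MulEquiv.coe_toMonoidHom, MulAut.conj_apply]
        rw [rex_T, rho_T, rho_T]
        refine hM _ _ _ _ _ _ _ t ?_ ?_
        · rw [hcast, hcast]; fin_cases a <;> simp [rs, hw20, hw21]
        · rw [hcast, hcast]; fin_cases b <;> simp [rs, hw20, hw21]
      exact DFunLike.congr_fun h u
    · have h : (MulAut.conj (pm (S12 a) : SpecialLinearGroup (Pt d) F)).toMonoidHom.comp ((blk (Fin (d + 1))).comp rho) =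
          (blk (Fin (d + 1))).comp rho := hom_ext fun a' b hab t => by
        simp only [MonoidHom.comp_apply, MulEquiv.coe_toMonoidHom, MulAut.conj_apply]
        rw [rho_T]
        refine hM _ _ _ _ _ _ _ t ?_ ?_
        · rw [hcast]; fin_cases a' <;> simp [(hS a).1, (hS a).2]
        · rw [hcast]; fin_cases b <;> simp [(hS a).1, (hS a).2]
      have h' := DFunLike.congr_fun h u
      simp only [MonoidHom.comp_apply, MulEquiv.coe_toMonoidHom, MulAut.conj_apply] at h'
      exact mul_inv_eq_iff_eq_mul.1 h'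
    · obtain ⟨⟨q00, q01⟩, q10, q11⟩ := hP j
      refine commute_of_sets ((blk (Fin (d + 1))).comp rho : SL(2, F) →* SpecialLinearGroup (Pt d) F)
        ((MulAut.conj (pm (Ps j) : SpecialLinearGroup (Pt d) F)).toMonoidHom.comp ((blk (Fin (d + 1))).comp rho))
        (Cfsg.Lib.Linear.closure_transvection_eq_top (ι := Fin 2) (F := F))
        (Cfsg.Lib.Linear.closure_transvection_eq_top (ι := Fin 2) (F := F)) ?_ u u
      rintro _ ⟨a, b, hab, t, rfl⟩ _ ⟨a', b', hab', v, rfl⟩
      simp only [MonoidHom.comp_apply, MulEquiv.coe_toMonoidHom, MulAut.conj_apply]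
      rw [rho_T, rho_T, blk_T, blk_T, pm_conj_T]
      refine T_comm _ _ ?_ ?_ t v <;> rw [hcast, hcast] <;> fin_cases a <;> fin_cases b <;> fin_cases a' <;> fin_cases b' <;>
        simp [q00, q01, q10, q11, q00.symm, q01.symm, q10.symm, q11.symm] at *
  · intro G _ A₁ B hgen hrel
    simp only [L, List.forall_mem_append, List.forall_mem_map, List.forall_mem_singleton,
      A₀, B₀, map_mul, map_inv, FreeGroup.lift_apply_of, Sum.elim_inl, Sum.elim_inr] at hrel
    obtain ⟨⟨⟨r1, r4⟩, r2⟩, r5⟩ := hrel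
    have hc33 : c3 ^ 3 = 1 := by
      have : cA ^ 3 = 1 := by decide
      rw [← map_pow, this, map_one]
    obtain ⟨A, hAψ⟩ := hψA G A₁ (by rw [← r1, ← map_pow, hc33, map_one])
    subst hAψ
    simp only [MonoidHom.comp_apply, hψc, hxu, hxu'] at r1 r2 r4 r5
    -- the stabiliser of the first two points centralises the generator
    have hfu : ∀ π : alternatingGroup (Pt d), π.1 i0 = i0 → π.1 i1 = i1 →
        B π * A (rho u) = A (rho u) * B π := by
      intro π e0 e1
      have h : Subgroup.closure (Set.range S12) ≤ (Subgroup.centralizer ({A (rho u)} : Set G)).comap B := by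
        rw [Subgroup.closure_le]
        rintro _ ⟨a, rfl⟩
        exact Subgroup.mem_centralizer_singleton_iff.2 (r2 a (List.mem_finRange a))
      exact Subgroup.mem_centralizer_singleton_iff.1 (h (hS' π e0 e1))
    have hu2 : ∀ h h' : SL(2, F) →* G, h u = h' u → h (sw u) = h' (sw u) → h = h' := fun h h' e e' =>
      MonoidHom.eq_of_eqOn_dense hu (by rintro x (rfl | rfl) <;> assumption)
    have hwu : B w * A (rho (sw u)) * (B w)⁻¹ = A (rho u) := by
      rw [← r4]
      have : B w * B w = 1 := by rw [← map_mul, hww, map_one]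
      rw [show (B w)⁻¹ = B w from inv_eq_of_mul_eq_one_right this]
      simp only [← mul_assoc, this, one_mul]
      rw [mul_assoc, this, mul_one]
    have hw2' : ∀ h, B w * A (rho h) * (B w)⁻¹ = A (rho (rex rs h)) := by
      have h : (MulAut.conj (B w)).toMonoidHom.comp (A.comp rho) = (A.comp rho).comp (rex rs).toMonoidHom :=
        hu2 _ _ r4 (by
          show B w * A (rho (sw u)) * (B w)⁻¹ = A (rho (sw (sw u)))
          rw [hwu, sw_sw])
      exact fun x => DFunLike.congr_fun h x
    have hfix : ∀ π : alternatingGroup (Pt d), π.1 i0 = i0 → π.1 i1 = i1 →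
        ∀ h, B π * A (rho h) * (B π)⁻¹ = A (rho h) := by
      intro π e0 e1
      have h : (MulAut.conj (B π)).toMonoidHom.comp (A.comp rho) = A.comp rho := by
        refine hu2 _ _ (mul_inv_eq_iff_eq_mul.2 (hfu π e0 e1)) ?_
        show B π * A (rho (sw u)) * (B π)⁻¹ = A (rho (sw u))
        have hk := hfu (w * π * w) (by simp [Perm.mul_apply, hw20, hw21, e1])
          (by simp [Perm.mul_apply, hw20, hw21, e0])
        rw [← r4]
        calc B π * (B w * A (rho u) * (B w)⁻¹) * (B π)⁻¹ =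
              B (π * w) * A (rho u) * (B (π * w))⁻¹ := by simp [mul_assoc]
          _ = B w * (B (w * π * w) * A (rho u) * (B (w * π * w))⁻¹) * (B w)⁻¹ := by
              have : π * w = w * (w * π * w) := by simp [← mul_assoc, hww]
              rw [this]; simp [mul_assoc]
          _ = _ := by rw [mul_inv_eq_iff_eq_mul.2 hk]
      exact fun x => DFunLike.congr_fun h x
    -- disjoint copies commute
    have hdis : ∀ π : alternatingGroup (Pt d), π.1 i0 ≠ i0 → π.1 i0 ≠ i1 → π.1 i1 ≠ i0 → π.1 i1 ≠ i1 →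
        ∀ h h', A (rho h) * (B π * A (rho h') * (B π)⁻¹) = B π * A (rho h') * (B π)⁻¹ * A (rho h) := by
      have base : ∀ π : alternatingGroup (Pt d), π.1 i0 ≠ i0 → π.1 i0 ≠ i1 → π.1 i1 ≠ i0 → π.1 i1 ≠ i1 →
          Commute (A (rho u)) (B π * A (rho u) * (B π)⁻¹) := by
        intro π a0 a1 b0 b1
        obtain ⟨j, τ, t0, t1, ta, tb⟩ := hreach (π.1 i0) (π.1 i1) (π.1.injective.ne n01) a0 a1 b0 b1
        have hk := hfix ((τ * Ps j)⁻¹ * π)
          (by rw [Subgroup.coe_mul, Subgroup.coe_inv, Perm.mul_apply, Perm.inv_eq_iff_eq, Subgroup.coe_mul,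
            Perm.mul_apply, ta])
          (by rw [Subgroup.coe_mul, Subgroup.coe_inv, Perm.mul_apply, Perm.inv_eq_iff_eq, Subgroup.coe_mul,
            Perm.mul_apply, tb]) u
        have e : B π * A (rho u) * (B π)⁻¹ = B (τ * Ps j) * A (rho u) * (B (τ * Ps j))⁻¹ := by
          conv_rhs => rw [← hk]
          simp [mul_assoc]
        have h5 : Commute (A (rho u)) (B (Ps j) * A (rho u) * (B (Ps j))⁻¹) := r5 j (List.mem_finRange j)
        have := h5.map (MulAut.conj (B τ)).toMonoidHom
        simp only [MulEquiv.coe_toMonoidHom, MulAut.conj_apply] at this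
        rw [hfix τ t0 t1] at this
        rw [e, map_mul]
        simpa [mul_assoc] using this
      intro π a0 a1 b0 b1
      have hπw : B π * A (rho (sw u)) * (B π)⁻¹ = B (π * w) * A (rho u) * (B (π * w))⁻¹ := by
        rw [← r4]; simp [mul_assoc]
      have hwπ : ∀ π : alternatingGroup (Pt d), π.1 i0 ≠ i0 → π.1 i0 ≠ i1 → π.1 i1 ≠ i0 → π.1 i1 ≠ i1 →
          Commute (A (rho (sw u))) (B π * A (rho u) * (B π)⁻¹) := by
        intro π a0 a1 b0 b1
        have hne : ∀ x, x ≠ i0 → x ≠ i1 → w.1 x ≠ i0 ∧ w.1 x ≠ i1 := fun x h0 h1 =>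
          ⟨fun e => h1 (w.1.injective (e.trans hw21.symm)), fun e => h0 (w.1.injective (e.trans hw20.symm))⟩
        have := (base (w * π) (hne _ a0 a1).1 (hne _ a0 a1).2 (hne _ b0 b1).1 (hne _ b0 b1).2).map
          (MulAut.conj (B w)).toMonoidHom
        simp only [MulEquiv.coe_toMonoidHom, MulAut.conj_apply] at this
        rw [r4] at this
        have e : B w * (B (w * π) * A (rho u) * (B (w * π))⁻¹) * (B w)⁻¹ =
            B (w * (w * π)) * A (rho u) * (B (w * (w * π)))⁻¹ := by simp [mul_assoc]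
        rwa [e, ← mul_assoc, hww, one_mul] at this
      refine commute_of_sets (A.comp rho) ((MulAut.conj (B π)).toMonoidHom.comp (A.comp rho)) hu hu ?_
      rintro x (rfl | rfl) y (rfl | rfl) <;>
        simp only [MonoidHom.comp_apply, MulEquiv.coe_toMonoidHom, MulAut.conj_apply]
      · exact base π a0 a1 b0 b1
      · rw [hπw]
        exact base (π * w) (by simp [Perm.mul_apply, hw20, b0]) (by simp [Perm.mul_apply, hw20, b1])
          (by simp [Perm.mul_apply, hw21, a0]) (by simp [Perm.mul_apply, hw21, a1])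
      · exact hwπ π a0 a1 b0 b1
      · rw [hπw]
        exact hwπ (π * w) (by simp [Perm.mul_apply, hw20, b0]) (by simp [Perm.mul_apply, hw20, b1])
          (by simp [Perm.mul_apply, hw21, a0]) (by simp [Perm.mul_apply, hw21, a1])
    -- the root elements
    have h01 : (0 : Fin 2) ≠ 1 := by decide
    have hpi : ∀ i j : Pt d, i ≠ j → ∃ π : alternatingGroup (Pt d), π.1 i0 = i ∧ π.1 i1 = j := by
      intro i j hij
      let π₁ : Perm (Pt d) := swap (swap i0 i i1) j * swap i0 i
      have hne : swap i0 i i1 ≠ i := by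
        intro e
        have := (swap i0 i).injective (e.trans (swap_apply_left i0 i).symm)
        exact n01 this.symm
      obtain ⟨π, hπ⟩ := exists_even π₁ n2r
      have e0 : π₁ i0 = i := by
        simp only [π₁, Perm.mul_apply, swap_apply_left]
        exact swap_apply_of_ne_of_ne hne.symm hij
      have e1 : π₁ i1 = j := by
        simp only [π₁, Perm.mul_apply, swap_apply_left]
      refine ⟨π, ?_, ?_⟩ <;> rcases hπ with h | h <;> rw [h]
      · exact e0
      · rw [Perm.mul_apply, swap_apply_of_ne_of_ne n02 n0r, e0]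
      · exact e1
      · rw [Perm.mul_apply, swap_apply_of_ne_of_ne n12 n1r, e1]
    choose π hπ0 hπ1 using hpi
    let X : Pt d → Pt d → F → G := fun i j t =>
      if h : i ≠ j then B (π i j h) * A (rho (T h01 t)) * (B (π i j h))⁻¹ else 1
    have hX : ∀ (u : alternatingGroup (Pt d)) (t : F),
        B u * A (rho (T h01 t)) * (B u)⁻¹ = X (u.1 i0) (u.1 i1) t := by
      intro u t
      have hne : u.1 i0 ≠ u.1 i1 := u.1.injective.ne n01
      simp only [X, dif_pos hne]
      have h := hfix ((π _ _ hne)⁻¹ * u) (by rw [Subgroup.coe_mul, Subgroup.coe_inv, Perm.mul_apply,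
        Perm.inv_eq_iff_eq, hπ0]) (by rw [Subgroup.coe_mul, Subgroup.coe_inv, Perm.mul_apply,
        Perm.inv_eq_iff_eq, hπ1]) (T h01 t)
      calc B u * A (rho (T h01 t)) * (B u)⁻¹ = B (π _ _ hne) * (B ((π _ _ hne)⁻¹ * u) * A (rho (T h01 t)) *
            (B ((π _ _ hne)⁻¹ * u))⁻¹) * (B (π _ _ hne))⁻¹ := by simp [mul_assoc]
        _ = _ := by rw [h]
    have hequiv : ∀ (u : alternatingGroup (Pt d)) (i j : Pt d) (t : F), i ≠ j →
        B u * X i j t * (B u)⁻¹ = X (u.1 i) (u.1 j) t := by
      intro u i j t hij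
      have := hX (u * π i j hij) t
      rw [Subgroup.coe_mul, Perm.mul_apply, Perm.mul_apply, hπ0, hπ1] at this
      rw [← this]
      simp only [X, dif_pos hij]
      simp [mul_assoc]
    have hb01 : ∀ t, A (rho (T h01 t)) = X i0 i1 t := fun t => by
      have := hX 1 t
      simpa using this
    have hb10 : ∀ t, A (rho (T h01.symm t)) = X i1 i0 t := fun t => by
      have := hX w t
      rw [hw20, hw21, hw2', rex_T] at this
      rw [← this]
      congr 2
    have hcyc : ∀ a b : Fin 3, ∀ (h : a ≠ b) t, A (T h t) = X (Sum.inl a) (Sum.inl b) t →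
        A (T (cA.1.injective.ne h) t) = X (Sum.inl (cA.1 a)) (Sum.inl (cA.1 b)) t := fun a b h t e => by
      rw [← hc3, ← hc3, ← hequiv c3 _ _ t (Sum.inl_injective.ne h), ← e, r1, ← map_inv, ← map_mul, ← map_mul,
        pm_conj_T]
    have hbase : ∀ a b : Fin 3, ∀ (h : a ≠ b) t, A (T h t) = X (Sum.inl a) (Sum.inl b) t := by
      intro a b h t
      have k01 : A (T (show (0 : Fin 3) ≠ 1 by decide) t) = X (Sum.inl 0) (Sum.inl 1) t := by
        rw [← hi0, ← hi1, ← hb01, rho_T]
      have k10 : A (T (show (1 : Fin 3) ≠ 0 by decide) t) = X (Sum.inl 1) (Sum.inl 0) t := by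
        rw [← hi0, ← hi1, ← hb10, rho_T]
      have c0 : cA.1 0 = 1 := by decide
      have c1 : cA.1 1 = 2 := by decide
      have c2 : cA.1 2 = 0 := by decide
      have k12 := hcyc _ _ _ t k01
      have k20 := hcyc _ _ _ t k12
      have k21 := hcyc _ _ _ t k10
      have k02 := hcyc _ _ _ t k21
      fin_cases a <;> fin_cases b <;> first
        | exact absurd rfl h
        | exact k01
        | exact k10
        | exact k12
        | exact k20
        | exact k21
        | exact k02
    -- every three points are conjugate to the first three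
    have htri : ∀ f : Fin 3 ↪ Pt d, ∃ (u : alternatingGroup (Pt d)) (σ : Perm (Fin 3)),
        ∀ a, u.1 (Sum.inl (σ a)) = f a := by
      intro f
      let u₀' : Perm (Pt d) := (π (f 0) (f 1) (f.injective.ne (by decide))).1
      let u₁ : Perm (Pt d) := swap (u₀' i2) (f 2) * u₀'
      have e0 : u₁ i0 = f 0 := by
        show swap (u₀' i2) (f 2) (u₀' i0) = f 0
        rw [swap_apply_of_ne_of_ne (u₀'.injective.ne n02) (by rw [show u₀' i0 = f 0 from hπ0 _ _ _]; exact f.injective.ne (by decide))]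
        exact hπ0 _ _ _
      have e1 : u₁ i1 = f 1 := by
        show swap (u₀' i2) (f 2) (u₀' i1) = f 1
        rw [swap_apply_of_ne_of_ne (u₀'.injective.ne n12) (by rw [show u₀' i1 = f 1 from hπ1 _ _ _]; exact f.injective.ne (by decide))]
        exact hπ1 _ _ _
      have e2 : u₁ i2 = f 2 := by
        show swap (u₀' i2) (f 2) (u₀' i2) = f 2
        rw [swap_apply_left]
      obtain ⟨u, hu⟩ := exists_even u₁ n01
      rcases hu with hu | hu
      · refine ⟨u, 1, fun a => ?_⟩
        rw [hu, Perm.one_apply]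
        fin_cases a
        exacts [hi0 ▸ e0, hi1 ▸ e1, hi2 ▸ e2]
      · refine ⟨u, swap 0 1, fun a => ?_⟩
        rw [hu, Perm.mul_apply]
        fin_cases a
        · show u₁ (swap i0 i1 (Sum.inl (swap (0 : Fin 3) 1 0))) = f 0
          rw [swap_apply_left, ← hi1, swap_apply_right, e0]
        · show u₁ (swap i0 i1 (Sum.inl (swap (0 : Fin 3) 1 1))) = f 1
          rw [swap_apply_right, ← hi0, swap_apply_left, e1]
        · show u₁ (swap i0 i1 (Sum.inl (swap (0 : Fin 3) 1 2))) = f 2
          rw [show swap (0 : Fin 3) 1 2 = 2 by decide, ← hi2, swap_apply_of_ne_of_ne n02.symm n12.symm, e2]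
    have hconj : ∀ (f : Fin 3 ↪ Pt d), ∃ (φ : SL(3, F) →* G), ∀ (a b : Fin 3) (h : a ≠ b) (t : F),
        X (f a) (f b) t = φ (T h t) := by
      intro f
      obtain ⟨u, σ, hu⟩ := htri f
      refine ⟨((MulAut.conj (B u)).toMonoidHom.comp A).comp (rex σ).toMonoidHom, fun a b h t => ?_⟩
      simp only [MonoidHom.comp_apply, MulEquiv.coe_toMonoidHom, MulAut.conj_apply]
      rw [rex_T, hbase, hequiv u _ _ t (Sum.inl_injective.ne (σ.injective.ne h)), hu, hu]
    have hcover : ∀ S : Finset (Pt d), S.card ≤ 3 → ∃ f : Fin 3 ↪ Pt d, ∀ x ∈ S, ∃ a, f a = x := by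
      intro S hS
      obtain ⟨S', hSS', -, hc⟩ := Finset.exists_subsuperset_card_eq (Finset.subset_univ S) hS (by
        simp only [Finset.card_univ, Fintype.card_sum, Fintype.card_fin]; omega)
      exact ⟨(S'.equivFinOfCardEq hc).symm.toEmbedding.trans (Function.Embedding.subtype _),
        fun x hx => ⟨S'.equivFinOfCardEq hc ⟨x, hSS' hx⟩, by simp⟩⟩
    have rAdd : ∀ i j, i ≠ j → ∀ t u : F, X i j t * X i j u = X i j (t + u) := fun i j hij t u => by
      simp only [X, dif_pos hij]
      rw [← T_add, map_mul, map_mul]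
      simp [mul_assoc]
    have rComm : ∀ i j k l, i ≠ j → k ≠ l → i ≠ l → j ≠ k → ∀ t u : F, X i j t * X k l u = X k l u * X i j t := by
      intro i j k l hij hkl hil hjk t u
      by_cases h4 : i ≠ k ∧ j ≠ l
      · obtain ⟨hik, hjl⟩ := h4
        let u₀' : Perm (Pt d) := (π i j hij).1
        let u₁ : Perm (Pt d) := swap (u₀' i2) k * u₀'
        let u₂ : Perm (Pt d) := swap (u₁ r0) l * u₁
        have a0 : u₁ i0 = i := by
          show swap (u₀' i2) k (u₀' i0) = i
          rw [swap_apply_of_ne_of_ne (u₀'.injective.ne n02) (by rw [show u₀' i0 = i from hπ0 _ _ _]; exact hik)]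
          exact hπ0 _ _ _
        have a1 : u₁ i1 = j := by
          show swap (u₀' i2) k (u₀' i1) = j
          rw [swap_apply_of_ne_of_ne (u₀'.injective.ne n12) (by rw [show u₀' i1 = j from hπ1 _ _ _]; exact hjk)]
          exact hπ1 _ _ _
        have a2 : u₁ i2 = k := by
          show swap (u₀' i2) k (u₀' i2) = k
          rw [swap_apply_left]
        have b0 : u₂ i0 = i := by
          show swap (u₁ r0) l (u₁ i0) = i
          rw [swap_apply_of_ne_of_ne (u₁.injective.ne n0r) (by rw [a0]; exact hil), a0]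
        have b1 : u₂ i1 = j := by
          show swap (u₁ r0) l (u₁ i1) = j
          rw [swap_apply_of_ne_of_ne (u₁.injective.ne n1r) (by rw [a1]; exact hjl), a1]
        have b2 : u₂ i2 = k := by
          show swap (u₁ r0) l (u₁ i2) = k
          rw [swap_apply_of_ne_of_ne (u₁.injective.ne n2r) (by rw [a2]; exact hkl), a2]
        have b3 : u₂ r0 = l := by
          show swap (u₁ r0) l (u₁ r0) = l
          rw [swap_apply_left]
        obtain ⟨v, hv⟩ := exists_even u₂ n2r
        have kk : ∀ a b, a ≠ b → a ≠ i0 → a ≠ i1 → b ≠ i0 → b ≠ i1 → Commute (X i0 i1 t) (X a b u) := by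
          intro a b hab a0 a1 b0 b1
          have h := hdis (π a b hab) (by rw [hπ0]; exact a0) (by rw [hπ0]; exact a1) (by rw [hπ1]; exact b0)
            (by rw [hπ1]; exact b1) (T h01 t) (T h01 u)
          rw [← hb01]
          simp only [X, dif_pos hab]
          exact h
        have c1 : Commute (X i0 i1 t) (X i2 r0 u) := kk i2 r0 n2r n02.symm n12.symm n0r.symm n1r.symm
        have c2 : Commute (X i0 i1 t) (X r0 i2 u) := kk r0 i2 n2r.symm n0r.symm n1r.symm n02.symm n12.symm
        rcases hv with hv | hv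
        · have := c1.map (MulAut.conj (B v)).toMonoidHom
          simp only [MulEquiv.coe_toMonoidHom, MulAut.conj_apply] at this
          rw [hequiv v _ _ t n01, hequiv v _ _ u n2r, hv, b0, b1, b2, b3] at this
          exact this
        · have := c2.map (MulAut.conj (B v)).toMonoidHom
          simp only [MulEquiv.coe_toMonoidHom, MulAut.conj_apply] at this
          rw [hequiv v _ _ t n01, hequiv v _ _ u n2r.symm, hv] at this
          simp only [Perm.mul_apply, swap_apply_left, swap_apply_right, swap_apply_of_ne_of_ne n02 n0r,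
            swap_apply_of_ne_of_ne n12 n1r, b0, b1, b2, b3] at this
          exact this
      · have hS : ({i, j, k, l} : Finset (Pt d)).card ≤ 3 := by
          by_cases hik : i = k
          · subst hik
            rw [show ({i, j, i, l} : Finset (Pt d)) = {i, j, l} by ext x; simp; tauto]
            exact Finset.card_le_three
          · have hjl : j = l := by by_contra hne; exact h4 ⟨hik, hne⟩
            subst hjl
            rw [show ({i, j, k, j} : Finset (Pt d)) = {i, j, k} by ext x; simp; tauto]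
            exact Finset.card_le_three
        obtain ⟨f, hf⟩ := hcover _ hS
        obtain ⟨a, rfl⟩ := hf i (by simp)
        obtain ⟨b, rfl⟩ := hf j (by simp)
        obtain ⟨c, rfl⟩ := hf k (by simp)
        obtain ⟨e, rfl⟩ := hf l (by simp)
        obtain ⟨φ, hφ⟩ := hconj f
        have hab : a ≠ b := fun h => hij (congrArg f h)
        have hce : c ≠ e := fun h => hkl (congrArg f h)
        rw [hφ a b hab, hφ c e hce, ← map_mul, ← map_mul,
          T_comm hab hce (fun h => hil (congrArg f h)) (fun h => hjk (congrArg f h))]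
    have rProd : ∀ i j k, i ≠ j → j ≠ k → i ≠ k → ∀ t u : F,
        X i j t * X j k u = X i k (t * u) * X j k u * X i j t := by
      intro i j k hij hjk hik t u
      obtain ⟨f, hf⟩ := hcover {i, j, k} Finset.card_le_three
      obtain ⟨a, rfl⟩ := hf i (by simp)
      obtain ⟨b, rfl⟩ := hf j (by simp)
      obtain ⟨c, rfl⟩ := hf k (by simp)
      obtain ⟨φ, hφ⟩ := hconj f
      have hab : a ≠ b := fun h => hij (congrArg f h)
      have hbc : b ≠ c := fun h => hjk (congrArg f h)
      have hac : a ≠ c := fun h => hik (congrArg f h)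
      rw [hφ a b hab, hφ b c hbc, hφ a c hac, ← map_mul, ← map_mul, ← map_mul, T_prod hab hbc hac]
    -- generation
    let H : Subgroup G := Subgroup.closure {x | ∃ i j t, i ≠ j ∧ x = X i j t}
    have hXH : ∀ i j t, i ≠ j → X i j t ∈ H := fun i j t h => Subgroup.subset_closure ⟨i, j, t, h, rfl⟩
    have hAH : ∀ g, A g ∈ H := fun g => by
      refine (?_ : Subgroup.closure {x : SL(3, F) | ∃ (i j : Fin 3) (h : i ≠ j) (c : F),
        x = SpecialLinearGroup.transvection h c} ≤ H.comap A) (by rw [Cfsg.Lib.Linear.closure_transvection_eq_top]; trivial)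
      rw [Subgroup.closure_le]
      rintro _ ⟨a, b, hab, t, rfl⟩
      show A (T hab t) ∈ H
      rw [hbase a b hab t]
      exact hXH _ _ t (Sum.inl_injective.ne hab)
    have hnorm : ∀ u, H ≤ H.comap (MulAut.conj (B u)).toMonoidHom := fun u => by
      show Subgroup.closure _ ≤ _
      rw [Subgroup.closure_le]
      rintro _ ⟨i, j, t, hij, rfl⟩
      show B u * X i j t * (B u)⁻¹ ∈ H
      rw [hequiv u i j t hij]
      exact hXH _ _ _ (u.1.injective.ne hij)
    haveI hN : (H.comap B).Normal := ⟨fun n hn g => by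
      show B (g * n * g⁻¹) ∈ H
      rw [map_mul, map_mul, map_inv]
      exact hnorm g hn⟩
    have hcN : ∀ v : alternatingGroup (Fin 3), Alt.extA Function.Embedding.inl v ∈ H.comap B := fun v => by
      have hc' : c3 ∈ H.comap B := by
        show B c3 ∈ H
        rw [r1]
        exact hAH _
      have h3v : v = 1 ∨ v = cA ∨ v = cA * cA := by revert v; decide
      rcases h3v with rfl | rfl | rfl
      · rw [map_one]; exact one_mem _
      · exact hc'
      · rw [map_mul]; exact mul_mem hc' hc'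
    have hBH : ∀ u, B u ∈ H := by
      have h3 : ∀ g : alternatingGroup (Pt d), Perm.IsThreeCycle g.1 → g ∈ H.comap B := by
        intro g hg
        have hcard : g.1.support.card = 3 := Perm.IsThreeCycle.card_support hg
        obtain ⟨f, hf⟩ := hcover g.1.support hcard.le
        obtain ⟨u, σ, hu⟩ := htri f
        obtain ⟨v, hv⟩ := exists_extA Function.Embedding.inl (u⁻¹ * g * u) (fun b hb => by
          rw [Subgroup.coe_mul, Subgroup.coe_mul, Subgroup.coe_inv, Perm.mul_apply, Perm.mul_apply, Perm.inv_eq_iff_eq]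
          refine Perm.notMem_support.1 fun hm => hb ?_
          obtain ⟨a, ha⟩ := hf _ hm
          rw [← hu a] at ha
          exact ⟨σ a, u.1.injective ha⟩)
        have := Subgroup.Normal.conj_mem hN _ (hv ▸ hcN v) u
        simpa [mul_assoc] using this
      have htop : H.comap B = ⊤ := by
        refine eq_top_iff.2 fun g _ => ?_
        have hg : (g.1 : Perm (Pt d)) ∈ (H.comap B).map (alternatingGroup (Pt d)).subtype := by
          refine (?_ : Subgroup.closure {σ : Perm (Pt d) | Perm.IsThreeCycle σ} ≤ _)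
            (by rw [Perm.closure_three_cycles_eq_alternating]; exact g.2)
          rw [Subgroup.closure_le]
          intro σ hσ
          exact ⟨⟨σ, Perm.IsThreeCycle.mem_alternatingGroup hσ⟩, h3 _ hσ, rfl⟩
        obtain ⟨g', hg', e⟩ := hg
        rwa [Subtype.ext e] at hg'
      exact fun u => (htop ▸ Subgroup.mem_top u : u ∈ H.comap B)
    -- the bound
    let eP : Pt d ≃ Fin (3 + (d + 1)) := finSumFinEquiv
    obtain ⟨e, -⟩ := Cfsg.Agent.S2401.result (K := F) (3 + (d + 1)) (by omega)
    let Y : {ij : Fin (3 + (d + 1)) × Fin (3 + (d + 1)) // ij.1 ≠ ij.2} × F → G :=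
      fun z => X (eP.symm z.1.1.1) (eP.symm z.1.1.2) z.2
    have hne : ∀ z : {ij : Fin (3 + (d + 1)) × Fin (3 + (d + 1)) // ij.1 ≠ ij.2},
        eP.symm z.1.1 ≠ eP.symm z.1.2 := fun z => eP.symm.injective.ne z.2
    let φ : SpecialLinearGroup (Fin (3 + (d + 1))) F →* G :=
      (PresentedGroup.toGroup (f := Y) (by
        rintro x ((⟨a, t, u, rfl⟩ | ⟨a, b, t, u, h1, h2, rfl⟩) | ⟨a, b, h, t, u, h1, rfl⟩)
        · simp only [map_mul, map_inv, FreeGroup.lift_apply_of, Y]
          rw [mul_inv_eq_one, rAdd _ _ (hne a)]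
        · simp only [map_mul, map_inv, FreeGroup.lift_apply_of, Y]
          rw [mul_inv_eq_one, mul_inv_eq_iff_eq_mul]
          exact rComm _ _ _ _ (hne a) (hne b) (eP.symm.injective.ne h1) (eP.symm.injective.ne h2) t u
        · simp only [map_mul, map_inv, FreeGroup.lift_apply_of, Y]
          have hbc : eP.symm a.1.2 ≠ eP.symm b.1.2 := by rw [h1]; exact hne b
          rw [h1] at hbc ⊢
          rw [mul_inv_eq_one, mul_inv_eq_iff_eq_mul, mul_inv_eq_iff_eq_mul]
          exact rProd _ _ _ (h1 ▸ hne a) hbc (eP.symm.injective.ne h) t u)).comp e.symm.toMonoidHom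
    have hφ : Function.Surjective φ := by
      rw [← MonoidHom.range_eq_top, eq_top_iff]
      refine le_trans (b := H) ?_ ?_
      · rw [← hgen, Subgroup.closure_le]
        rintro _ (⟨g, rfl⟩ | ⟨g, rfl⟩)
        exacts [hAH (ψ g), hBH g]
      · rw [Subgroup.closure_le]
        rintro _ ⟨i, j, t, hij, rfl⟩
        refine ⟨e (PresentedGroup.of (⟨(eP i, eP j), eP.injective.ne hij⟩, t)), ?_⟩
        simp only [φ, MonoidHom.comp_apply, MulEquiv.coe_toMonoidHom, MulEquiv.symm_apply_apply,
          PresentedGroup.toGroup.of, Y, Equiv.symm_apply_apply]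
    exact ⟨Finite.of_surjective φ hφ, (Nat.card_le_card_of_surjective φ hφ).trans
      (Nat.card_congr (rex eP).toEquiv).ge⟩

theorem bddG_SL [Fintype F] {k r s m : ℕ} (hT : BddG (alternatingGroup (Pt d)) k r)
    (S12 : Fin s → alternatingGroup (Pt d)) (hS : ∀ a, (S12 a).1 (p0 d) = p0 d ∧ (S12 a).1 (p1 d) = p1 d)
    (hS' : ∀ π : alternatingGroup (Pt d), π.1 (p0 d) = p0 d → π.1 (p1 d) = p1 d →
      π ∈ Subgroup.closure (Set.range S12))
    (Ps : Fin m → alternatingGroup (Pt d))
    (hP : ∀ j, ((Ps j).1 (p0 d) ≠ p0 d ∧ (Ps j).1 (p0 d) ≠ p1 d) ∧ ((Ps j).1 (p1 d) ≠ p0 d ∧ (Ps j).1 (p1 d) ≠ p1 d))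
    (hreach : ∀ a b : Pt d, a ≠ b → a ≠ p0 d → a ≠ p1 d → b ≠ p0 d → b ≠ p1 d →
      ∃ (j : Fin m) (π : alternatingGroup (Pt d)), π.1 (p0 d) = p0 d ∧ π.1 (p1 d) = p1 d ∧
        π.1 ((Ps j).1 (p0 d)) = a ∧ π.1 ((Ps j).1 (p1 d)) = b) :
    BddG (SpecialLinearGroup (Pt d) F) (4 + k) (13 + r + (2 + s + m)) :=
  (bddOn_SL (F := F) d hT S12 hS hS' Ps hP hreach).bddG

end Cfsg.Lib.Linear.ShortPres.SLN.Seven
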